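import Mathlib

/-!
The arithmetic of groups whose elements have prime order.
-/

set_option autoImplicit false

namespace Cfsg.Agent.Lib.PrimeElements

theorem arith_one_real {S P L a p i : ℤ} (hp : Prime p) (hS : 4 ≤ S) (hP : 3 ≤ P) (hL : 1 ≤ L)
    (hpP : p ∣ P) (ha : 2 ≤ a) (haS : a ∣ S - 1) (hcase : p ∣ a ∨ a ∣ L) (hi : i = S - 1)
    (heq : 2 * i ^ 2 * (P * L - a) = a ^ 2 * S * (P - 1)) : False := by
  obtain ⟨m, hm⟩ := haS
  rcases hcase with hpa | haL
  · have h1 : p ∣ P * L - a := dvd_sub (hpP.mul_right L) hpa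
    obtain ⟨d, hd⟩ := h1
    have h2 : p * (2 * m ^ 2 * d) = S * (P - 1) := by
      have : a ^ 2 * (p * (2 * m ^ 2 * d)) = a ^ 2 * (S * (P - 1)) := by
        rw [hd, hi, hm] at heq
        linarith
      exact mul_left_cancel₀ (pow_ne_zero 2 (by omega)) this
    have h3 : p ∣ S * (P - 1) := ⟨_, h2.symm⟩
    rcases hp.dvd_or_dvd h3 with h | h
    · have h4 : p ∣ S - 1 := hm ▸ hpa.mul_right m
      exact hp.not_unit (isUnit_of_dvd_one (by simpa using dvd_sub h h4))
    · exact hp.not_unit (isUnit_of_dvd_one (by simpa using dvd_sub hpP h))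
  · obtain ⟨c, hc⟩ := haL
    have hc1 : 1 ≤ c := by nlinarith
    have hm1 : 1 ≤ m := by nlinarith
    have h2 : 2 * i ^ 2 * (P * c - 1) = a * S * (P - 1) := by
      have : a * (2 * i ^ 2 * (P * c - 1)) = a * (a * S * (P - 1)) := by
        rw [hc] at heq
        linarith
      exact mul_left_cancel₀ (by omega) this
    have h3 : a * S * (P - 1) ≤ i * S * (P - 1) := by
      have : a ≤ i := by nlinarith
      gcongr
      omega
    have h4 : i * S * (P - 1) < 2 * i ^ 2 * (P - 1) := by
      have h5 : i * S < 2 * i ^ 2 := by nlinarith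
      exact mul_lt_mul_of_pos_right h5 (by omega)
    have h6 : 2 * i ^ 2 * (P - 1) ≤ 2 * i ^ 2 * (P * c - 1) := by
      gcongr
      nlinarith
    linarith

theorem arith_both_real {S P L m p : ℤ} {i : ℕ} (hp : 3 ≤ p) (hm : 1 ≤ m) (hmo : Odd m)
    (hpo : Odd p) (hi : 1 ≤ i) (hP : P = p ^ i) (hL : 3 ≤ L) (hLo : Odd L) (hS : S = m * p + 1)
    (heq : S * (P + L) = 2 * m * P * L + 2) : P = p ∧ L = p + 2 ∧ S = p + 1 := by
  subst hS
  rcases eq_or_lt_of_le hi with h1 | h2
  · subst h1
    rw [pow_one] at hP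
    subst hP
    have h : (L - P) * (m * P - 1) = 2 * P - 2 := by linarith
    have hmp : 2 ≤ m * P - 1 := by nlinarith
    rcases eq_or_lt_of_le hm with h3 | h3
    · subst h3
      refine ⟨rfl, ?_, by ring⟩
      have : (L - P) * (P - 1) = 2 * (P - 1) := by linarith
      have := mul_right_cancel₀ (by omega) this
      omega
    · exfalso
      obtain ⟨k, hk⟩ := hmo
      have hm3 : 3 ≤ m := by omega
      have hpos : 0 < L - P := by
        by_contra hn
        push Not at hn
        nlinarith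
      have hge : m * P - 1 ≤ (L - P) * (m * P - 1) := le_mul_of_one_le_left (by omega) hpos
      nlinarith
  · exfalso
    obtain ⟨i, rfl⟩ : ∃ j, i = j + 2 := ⟨i - 2, by omega⟩
    have hP2 : p * p ≤ P := by
      rw [hP, ← sq]
      exact pow_le_pow_right₀ (by omega) (by omega)
    have hP9 : 9 ≤ P := le_trans (by nlinarith) hP2
    obtain ⟨k, hk⟩ := hpo
    obtain ⟨l, hl⟩ := hLo
    rcases lt_trichotomy (2 * L) (p + 1) with h | h | h
    · -- too small
      have h2L : 2 * L ≤ p - 1 := by omega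
      have h7 : 2 * m * P * L ≤ m * P * (p - 1) := by
        calc 2 * m * P * L = m * P * (2 * L) := by ring
          _ ≤ m * P * (p - 1) := by gcongr
      have f1 : 0 ≤ (m * p + 1) * L := by positivity
      have f2 : 0 ≤ m * P := by positivity
      linarith
    · have h7 : (m * p + 1) * (2 * P + (p + 1)) = 2 * m * P * (p + 1) + 4 := by
        linear_combination 2 * heq + (2 * m * P - m * p - 1) * h
      obtain ⟨j, hj⟩ := hmo
      rcases eq_or_lt_of_le hm with h3 | h3
      · subst h3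
        nlinarith
      · have hm3 : 3 ≤ m := by omega
        have hp5 : 5 ≤ p := by omega
        have h8 : 2 * P * (m - 1) = (p + 1) * (m * p + 1) - 4 := by linarith
        have h9 : 2 * (p * p) * (m - 1) ≤ (p + 1) * (m * p + 1) - 4 := by
          rw [← h8]; gcongr
        have f1 : 5 * ((m - 2) * p) ≤ (m - 2) * (p * p) := by
          nlinarith [mul_nonneg (mul_nonneg (show 0 ≤ m - 2 by omega) (show 0 ≤ p by omega))
            (show 0 ≤ p - 5 by omega)]
        nlinarith
    · have h2L : p + 3 ≤ 2 * L := by omega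
      have hden : 0 ≤ 2 * m * P - m * p - 1 := by nlinarith
      have h7 : (p + 3) * (2 * m * P - m * p - 1) ≤ 2 * L * (2 * m * P - m * p - 1) := by gcongr
      have h8 : 2 * L * (2 * m * P - m * p - 1) = 2 * ((m * p + 1) * P - 2) := by linarith
      have h9 : (6 * m - 2) * P ≤ (p + 3) * (m * p + 1) - 4 := by linarith
      have h10 : (6 * m - 2) * (p * p) ≤ (6 * m - 2) * P := by gcongr; omega
      have f1 : 3 * ((5 * m - 2) * p) ≤ (5 * m - 2) * (p * p) := by
        nlinarith [mul_nonneg (mul_nonneg (show 0 ≤ 5 * m - 2 by omega) (show 0 ≤ p by omega))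
          (show 0 ≤ p - 3 by omega)]
      nlinarith

/-- `2 ^ n + 1` is a power of `3` only for `n = 1` and `n = 3`. -/
theorem eq_one_or_three_of_pow_eq {n k : ℕ} (h : 2 ^ n + 1 = 3 ^ k) : n = 1 ∨ n = 3 := by
  rcases Nat.even_or_odd k with ⟨j, hj⟩ | ⟨j, hj⟩
  · subst hj
    have h3 : 1 ≤ 3 ^ j := Nat.one_le_pow _ _ (by norm_num)
    have hfac : (3 ^ j - 1) * (3 ^ j + 1) = 2 ^ n := by
      rw [pow_add] at h
      obtain ⟨x, hx⟩ : ∃ x, 3 ^ j = x + 1 := ⟨3 ^ j - 1, by omega⟩
      rw [hx] at h ⊢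
      simp only [add_tsub_cancel_right]
      nlinarith
    obtain ⟨u, hu, hu'⟩ := (Nat.dvd_prime_pow Nat.prime_two).mp (Dvd.intro _ hfac : 3 ^ j - 1 ∣ 2 ^ n)
    obtain ⟨v, hv, hv'⟩ := (Nat.dvd_prime_pow Nat.prime_two).mp
      (Dvd.intro_left _ hfac : 3 ^ j + 1 ∣ 2 ^ n)
    have huv : 2 ^ v = 2 ^ u + 2 := by omega
    have hu1 : u ≤ 1 := by
      by_contra hu2
      obtain ⟨u', rfl⟩ : ∃ u', u = u' + 2 := ⟨u - 2, by omega⟩
      have hv2 : 2 ≤ v := by
        by_contra hv2
        have : 2 ^ v ≤ 2 := by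
          calc 2 ^ v ≤ 2 ^ 1 := Nat.pow_le_pow_right (by norm_num) (by omega)
            _ = 2 := by norm_num
        have : 1 ≤ 2 ^ (u' + 2) := Nat.one_le_pow _ _ (by norm_num)
        omega
      obtain ⟨v', rfl⟩ : ∃ v', v = v' + 2 := ⟨v - 2, by omega⟩
      rw [pow_add, pow_add] at huv
      norm_num at huv
      omega
    rw [hu', hv'] at hfac
    interval_cases u
    · norm_num at huv
      exact absurd huv (by
        rcases Nat.eq_zero_or_pos v with rfl | hv0
        · norm_num
        · obtain ⟨v', rfl⟩ : ∃ v', v = v' + 1 := ⟨v - 1, by omega⟩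
          rw [pow_succ]; omega)
    · have h4 : 2 ^ v = 2 ^ 2 := by rw [huv]; norm_num
      rw [h4] at hfac
      have : 2 ^ 3 = 2 ^ n := by rw [← hfac]; norm_num
      exact Or.inr (Nat.pow_right_injective le_rfl this).symm
  · left
    subst hj
    have h8 : 3 ^ (2 * j + 1) % 4 = 3 := by
      rw [pow_succ, pow_mul, Nat.mul_mod, Nat.pow_mod]
      norm_num
    rcases Nat.lt_or_ge n 2 with hn | hn
    · interval_cases n
      · exfalso
        norm_num at h
        have : Odd (3 ^ (2 * j + 1)) := Odd.pow (by decide)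
        rw [← h] at this
        exact absurd this (by decide)
      · rfl
    · exfalso
      obtain ⟨n', rfl⟩ : ∃ n', n = n' + 2 := ⟨n - 2, by omega⟩
      rw [pow_add 2] at h
      norm_num at h
      generalize 3 ^ (2 * j + 1) = X at h h8
      generalize 2 ^ n' = Y at h
      omega

end Cfsg.Agent.Lib.PrimeElements
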