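import Mathlib
import Cfsg.Agent.Lib.Burnside.Paqb
import Cfsg.Agent.Lib.RealElt.Basic

/-!
Non-solvable groups with three primes in which all non-identity elements have prime order and
elements of equal order are conjugate under automorphisms: centralisers and Sylow normalisers.
-/

set_option autoImplicit false

namespace Cfsg.Agent.Lib.PrimeElements

open Subgroup
open scoped Pointwise

universe u

/-- All non-identity elements have prime order, equal orders are fused by automorphisms, the group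
is not solvable and its order has three prime divisors. -/
structure IsPrimeElementGroup (G : Type u) [Group G] : Prop where
  prime_order : ∀ x : G, x ≠ 1 → (orderOf x).Prime
  fused : ∀ x y : G, orderOf x = orderOf y → ∃ φ : MulAut G, φ x = y
  not_solvable : ¬ Group.IsSolvable G
  three : (Nat.card G).primeFactors.card = 3

/-- A number with two possible prime divisors. -/
theorem exists_pow_mul_of_primes {r s : ℕ} (n : ℕ) (hn : n ≠ 0)
    (h : ∀ l : ℕ, l.Prime → l ∣ n → l = r ∨ l = s) : ∃ a b, n = r ^ a * s ^ b := by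
  induction n using Nat.strong_induction_on with
  | _ n ih =>
    rcases eq_or_ne n 1 with rfl | h1
    · exact ⟨0, 0, by simp⟩
    obtain ⟨l, hl, hld⟩ := Nat.exists_prime_and_dvd h1
    obtain ⟨m, rfl⟩ := hld
    have hm0 : m ≠ 0 := fun e => hn (by rw [e, mul_zero])
    obtain ⟨a, b, hab⟩ := ih m (lt_mul_of_one_lt_left (Nat.pos_of_ne_zero hm0) hl.one_lt) hm0
      fun l' hl' hd => h l' hl' (hd.mul_left l)
    rcases h l hl (dvd_mul_right l m) with rfl | rfl
    · exact ⟨a + 1, b, by rw [hab, pow_succ]; ring⟩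
    · exact ⟨a, b + 1, by rw [hab, pow_succ]; ring⟩

variable {G : Type u} [Group G] [Finite G]

namespace IsPrimeElementGroup

variable (hG : IsPrimeElementGroup G) {p : ℕ} [hp : Fact p.Prime]
include hG

theorem orderOf_eq_of_dvd {x : G} (hx : p ∣ orderOf x) : orderOf x = p := by
  have hx1 : x ≠ 1 := fun h => by
    rw [h, orderOf_one] at hx
    exact hp.out.not_dvd_one hx
  exact ((Nat.prime_dvd_prime_iff_eq hp.out (hG.prime_order x hx1)).mp hx).symm

theorem orderOf_eq_of_mem {P : Subgroup G} (hP : IsPGroup p P) {x : G} (hx : x ∈ P) (hx1 : x ≠ 1) :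
    orderOf x = p := by
  obtain ⟨k, hk⟩ := IsPGroup.iff_orderOf.mp hP ⟨x, hx⟩
  rw [Subgroup.orderOf_mk] at hk
  refine hG.orderOf_eq_of_dvd (hk ▸ dvd_pow_self p fun h0 => hx1 ?_)
  rw [h0, pow_zero] at hk
  exact orderOf_eq_one_iff.mp hk

theorem centralizer_isPGroup {x : G} (hx : orderOf x = p) :
    IsPGroup p (centralizer ({x} : Set G)) := by
  refine IsPGroup.iff_orderOf.mpr fun y => ?_
  rw [← Subgroup.orderOf_coe]
  by_cases hy1 : (y : G) = 1
  · exact ⟨0, by rw [hy1, orderOf_one, pow_zero]⟩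
  refine ⟨1, ?_⟩
  rw [pow_one]
  by_contra hne
  have hr := hG.prime_order _ hy1
  have hc : Commute (y : G) x := mem_centralizer_singleton_iff.mp y.2
  have hcop : (orderOf (y : G)).Coprime (orderOf x) := by
    rw [hx]; exact (Nat.coprime_primes hr hp.out).mpr hne
  have h1 := hc.orderOf_mul_eq_mul_orderOf_of_coprime hcop
  have h2 : (y : G) * x ≠ 1 := fun e => by
    rw [e, orderOf_one] at h1
    exact hr.not_dvd_one (Dvd.intro _ h1.symm)
  have h3 := hG.prime_order _ h2
  rw [h1] at h3
  exact Nat.not_prime_mul hr.ne_one (hx ▸ hp.out.ne_one) h3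

theorem exists_sylow_eq_centralizer {x : G} (hx : orderOf x = p) :
    ∃ P : Sylow p G, (P : Subgroup G) = centralizer ({x} : Set G) := by
  obtain ⟨P⟩ : Nonempty (Sylow p G) := inferInstance
  have hd : p ∣ Nat.card G := hx ▸ orderOf_dvd_natCard x
  haveI : Nontrivial (P : Subgroup G) := (nontrivial_iff_ne_bot _).mpr (P.ne_bot_of_dvd_card hd)
  haveI := P.2.center_nontrivial
  obtain ⟨⟨z, hzc⟩, hz1⟩ := exists_ne (1 : center (P : Subgroup G))
  have hz1' : (z : G) ≠ 1 := fun h => hz1 (Subtype.ext (Subtype.ext h))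
  have hzo : orderOf (z : G) = p := hG.orderOf_eq_of_mem P.2 z.2 hz1'
  have hPz : centralizer ({(z : G)} : Set G) = P := by
    refine P.3 (hG.centralizer_isPGroup hzo) fun u hu => mem_centralizer_singleton_iff.mpr ?_
    exact congrArg Subtype.val (mem_center_iff.mp hzc ⟨u, hu⟩)
  obtain ⟨φ, hφ⟩ := hG.fused z x (hzo.trans hx.symm)
  obtain ⟨Q, hQ⟩ := (hG.centralizer_isPGroup hx).exists_le_sylow
  refine ⟨Q, (Subgroup.eq_of_le_of_card_ge hQ ?_).symm⟩
  have hle : (P : Subgroup G).map φ.toMonoidHom ≤ centralizer ({x} : Set G) := by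
    rintro _ ⟨u, hu, rfl⟩
    rw [mem_centralizer_singleton_iff, ← hφ]
    change φ u * φ (z : G) = φ (z : G) * φ u
    rw [← map_mul, ← map_mul]
    exact congrArg φ (mem_centralizer_singleton_iff.mp (hPz.symm ▸ hu))
  refine le_trans ?_ (Subgroup.card_le_of_le hle)
  rw [Subgroup.card_map_of_injective φ.injective, P.card_eq_multiplicity]
  exact Q.card_eq_multiplicity.le

theorem card_centralizer {x : G} (hx : orderOf x = p) (P : Sylow p G) :
    Nat.card (centralizer ({x} : Set G)) = Nat.card (P : Subgroup G) := by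
  obtain ⟨Q, hQ⟩ := hG.exists_sylow_eq_centralizer hx
  rw [← hQ, Q.card_eq_multiplicity, P.card_eq_multiplicity]

/-- In an abelian Sylow subgroup every element is self-centralising. -/
theorem centralizer_eq {P : Sylow p G} (hab : IsMulCommutative (P : Subgroup G)) {x : G}
    (hx : x ∈ (P : Subgroup G)) (hx1 : x ≠ 1) : centralizer ({x} : Set G) = P := by
  refine (Subgroup.eq_of_le_of_card_ge (fun u hu => mem_centralizer_singleton_iff.mpr ?_) ?_).symm
  · exact congrArg Subtype.val (hab.is_comm.comm ⟨u, hu⟩ ⟨x, hx⟩)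
  · exact (hG.card_centralizer (hG.orderOf_eq_of_mem P.2 hx hx1) P).le

/-- Two primes are not enough. -/
theorem not_subset_pair {r s : ℕ} (hr : r.Prime) (hs : s.Prime) {N : Subgroup G} [N.Normal]
    (hN : ∀ l : ℕ, l.Prime → l ∣ Nat.card N → l = r ∨ l = s)
    (hQ : ∀ l : ℕ, l.Prime → l ∣ N.index → l = r ∨ l = s) : False := by
  refine hG.not_solvable ((Group.isSolvable_iff_subgroup_quotient N).mpr ⟨?_, ?_⟩)
  · obtain ⟨a, b, hab⟩ := exists_pow_mul_of_primes _ Nat.card_pos.ne' hN
    exact Burnside.isSolvable_of_card_eq_prime_pow_mul hr hs hab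
  · obtain ⟨a, b, hab⟩ := exists_pow_mul_of_primes _ Subgroup.index_ne_zero_of_finite hQ
    rw [Subgroup.index_eq_card] at hab
    exact Burnside.isSolvable_of_card_eq_prime_pow_mul hr hs hab

theorem mem_or_eq_of_dvd {r s t : ℕ} (hπ : (Nat.card G).primeFactors = {r, s, t}) {l : ℕ}
    (hl : l.Prime) (hd : l ∣ Nat.card G) : l = r ∨ l = s ∨ l = t := by
  have := Nat.mem_primeFactors.mpr ⟨hl, hd, Nat.card_pos.ne'⟩
  rw [hπ] at this
  simpa using this

/-- Burnside: an abelian Sylow subgroup is not its own normalizer. -/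
theorem normalizer_ne {P : Sylow p G} (hab : IsMulCommutative (P : Subgroup G))
    (hd : p ∣ Nat.card G) : normalizer ((P : Subgroup G) : Set G) ≠ P := by
  intro h
  have hP : normalizer ((P : Subgroup G) : Set G) ≤ centralizer ((P : Subgroup G) : Set G) := by
    rw [h]
    intro u hu
    exact mem_centralizer_iff.mpr fun v hv =>
      congrArg Subtype.val (hab.is_comm.comm ⟨v, hv⟩ ⟨u, hu⟩)
  have hc := MonoidHom.ker_transferSylow_isComplement' P hP
  set N := (MonoidHom.transferSylow P hP).ker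
  have hpmem : p ∈ (Nat.card G).primeFactors := Nat.mem_primeFactors.mpr ⟨hp.out, hd, Nat.card_pos.ne'⟩
  obtain ⟨r, s, hrs, hπ⟩ := Finset.card_eq_two.mp
    (show ((Nat.card G).primeFactors.erase p).card = 2 by
      rw [Finset.card_erase_of_mem hpmem, hG.three])
  have hrm : r ∈ (Nat.card G).primeFactors.erase p := by rw [hπ]; simp
  have hsm : s ∈ (Nat.card G).primeFactors.erase p := by rw [hπ]; simp
  have hr := Nat.prime_of_mem_primeFactors (Finset.mem_of_mem_erase hrm)
  have hs := Nat.prime_of_mem_primeFactors (Finset.mem_of_mem_erase hsm)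
  have hNp : ¬ p ∣ Nat.card N := by rw [← hc.index_eq_card]; exact P.not_dvd_index
  have hNpr : ∀ l : ℕ, l.Prime → l ∣ Nat.card N → l = r ∨ l = s := by
    intro l hl hld
    have hne : l ≠ p := fun e => hNp (e ▸ hld)
    have := Finset.mem_erase.mpr ⟨hne, Nat.mem_primeFactors.mpr
      ⟨hl, hld.trans (card_subgroup_dvd_card N), Nat.card_pos.ne'⟩⟩
    rw [hπ] at this
    simpa using this
  haveI : Group.IsSolvable N := by
    obtain ⟨a, b, hab'⟩ := exists_pow_mul_of_primes _ Nat.card_pos.ne' hNpr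
    exact Burnside.isSolvable_of_card_eq_prime_pow_mul hr hs hab'
  haveI : Group.IsSolvable (G ⧸ N) := by
    obtain ⟨k, hk⟩ := P.2.exists_card_eq
    refine Burnside.isSolvable_of_card_eq_prime_pow_mul hp.out hr (a := k) (b := 0) ?_
    rw [← Subgroup.index_eq_card, hc.symm.index_eq_card, hk, pow_zero, mul_one]
  exact hG.not_solvable ((Group.isSolvable_iff_subgroup_quotient N).mpr ⟨inferInstance, inferInstance⟩)

theorem sylow_two_comm [Fact (Nat.Prime 2)] (S : Sylow 2 G) : IsMulCommutative (S : Subgroup G) := by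
  refine ⟨⟨fun a b => Subtype.ext ?_⟩⟩
  have hsq : ∀ z ∈ (S : Subgroup G), z⁻¹ = z := by
    intro z hz
    by_cases hz1 : z = 1
    · simp [hz1]
    · refine inv_eq_of_mul_eq_one_right ?_
      rw [← sq, ← hG.orderOf_eq_of_mem S.2 hz hz1, pow_orderOf_eq_one]
  have h := hsq _ ((S : Subgroup G).mul_mem a.2 b.2)
  rw [mul_inv_rev, hsq _ a.2, hsq _ b.2] at h
  exact h.symm

/-- An element of odd prime order cannot invert an element of odd prime order. -/
theorem ne_inv_of_odd {x y : G} (hx : orderOf x = p) (hp2 : p ≠ 2) (hy : Odd (orderOf y)) :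
    y * x * y⁻¹ ≠ x⁻¹ := by
  intro h
  have h1 := RealElt.conj_odd_pow_of_inv h hy
  rw [pow_orderOf_eq_one, one_mul, inv_one, mul_one] at h1
  have h2 : x ^ 2 = 1 := by rw [sq]; nth_rewrite 1 [h1]; group
  have h3 := orderOf_dvd_of_pow_eq_one h2
  rw [hx] at h3
  exact hp2 ((Nat.prime_dvd_prime_iff_eq hp.out Nat.prime_two).mp h3)

/-- The normalizer of a Sylow subgroup of odd prime with normalizer index even. -/
theorem real_sylow (hp2 : p ≠ 2) (hd : p ∣ Nat.card G) (P : Sylow p G) {t : G}
    (ht : t ∈ normalizer ((P : Subgroup G) : Set G)) (ht2 : orderOf t = 2) :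
    IsMulCommutative (P : Subgroup G) ∧
      (∀ x ∈ (P : Subgroup G), t * x * t⁻¹ = x⁻¹) ∧
      (∀ y ∈ normalizer ((P : Subgroup G) : Set G), y ∉ (P : Subgroup G) → orderOf y = 2) ∧
      Nat.card (normalizer ((P : Subgroup G) : Set G)) = 2 * Nat.card (P : Subgroup G) := by
  haveI : Fact (Nat.Prime 2) := ⟨Nat.prime_two⟩
  have htt : t * t = 1 := by rw [← sq, ← ht2, pow_orderOf_eq_one]
  have hti : t⁻¹ = t := inv_eq_of_mul_eq_one_right htt
  have hfix : ∀ y ∈ normalizer ((P : Subgroup G) : Set G), orderOf y = 2 →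
      ∀ x ∈ (P : Subgroup G), y * x * y⁻¹ = x⁻¹ := by
    intro y hy hy2 x hx
    let ψ : (P : Subgroup G) →* (P : Subgroup G) :=
      { toFun := fun z => ⟨y * z * y⁻¹, (mem_normalizer_iff.mp hy z).mp z.2⟩
        map_one' := Subtype.ext (by simp)
        map_mul' := fun u v => Subtype.ext (by simp [mul_assoc]) }
    have hfree : MonoidHom.FixedPointFree ψ := by
      intro z hz
      by_contra hne
      have hz1 : (z : G) ≠ 1 := fun e => hne (Subtype.ext e)
      have hzy : y * (z : G) = z * y := mul_inv_eq_iff_eq_mul.mp (congrArg Subtype.val hz)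
      have hzo := hG.orderOf_eq_of_mem P.2 z.2 hz1
      obtain ⟨k, hk⟩ := IsPGroup.iff_orderOf.mp (hG.centralizer_isPGroup hzo)
        ⟨y, mem_centralizer_singleton_iff.mpr hzy⟩
      rw [Subgroup.orderOf_mk, hy2] at hk
      have : p ∣ 2 := by
        rcases Nat.eq_zero_or_pos k with rfl | hk0
        · norm_num at hk
        · exact hk ▸ dvd_pow_self p hk0.ne'
      exact hp2 ((Nat.prime_dvd_prime_iff_eq hp.out Nat.prime_two).mp this)
    have hinv : Function.Involutive ψ := fun z => Subtype.ext (by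
      change y * (y * (z : G) * y⁻¹) * y⁻¹ = z
      have : y * y = 1 := by rw [← sq, ← hy2, pow_orderOf_eq_one]
      calc y * (y * (z : G) * y⁻¹) * y⁻¹ = (y * y) * z * (y * y)⁻¹ := by group
        _ = z := by rw [this]; group)
    exact congrArg Subtype.val (congrFun (hfree.coe_eq_inv_of_involutive hinv) ⟨x, hx⟩)
  have hinvt := hfix t ht ht2
  have hab : IsMulCommutative (P : Subgroup G) := by
    refine ⟨⟨fun a b => Subtype.ext ?_⟩⟩
    have h := hinvt _ ((P : Subgroup G).mul_mem a.2 b.2)
    rw [show t * ((a : G) * b) * t⁻¹ = (t * a * t⁻¹) * (t * b * t⁻¹) by group, hinvt _ a.2,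
      hinvt _ b.2, mul_inv_rev] at h
    have := congrArg (·⁻¹) h
    simpa using this.symm
  have hP := P.ne_bot_of_dvd_card hd
  obtain ⟨x, hx, hx1⟩ := (Subgroup.bot_or_exists_ne_one _).resolve_left hP
  have hxo := hG.orderOf_eq_of_mem P.2 hx hx1
  have hCx := hG.centralizer_eq hab hx hx1
  have hinvol : ∀ y ∈ normalizer ((P : Subgroup G) : Set G), y ∉ (P : Subgroup G) →
      orderOf y = 2 := by
    intro y hy hyP
    have hy1 : y ≠ 1 := fun e => hyP (e ▸ one_mem _)
    by_contra hy2
    have hyodd : Odd (orderOf y) := (hG.prime_order y hy1).odd_of_ne_two hy2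
    have hyx : y * x * y⁻¹ ∈ (P : Subgroup G) := (mem_normalizer_iff.mp hy x).mp hx
    have hcomm : ∀ z ∈ (P : Subgroup G), (t * y) * z * (t * y)⁻¹ = (y * z * y⁻¹)⁻¹ := by
      intro z hz
      rw [show t * y * z * (t * y)⁻¹ = t * (y * z * y⁻¹) * t⁻¹ by group]
      exact hinvt _ ((mem_normalizer_iff.mp hy z).mp hz)
    have htyN : t * y ∈ normalizer ((P : Subgroup G) : Set G) := mul_mem ht hy
    by_cases hty2 : orderOf (t * y) = 2
    · -- both invert, so `y` centralises
      have h1 := hfix _ htyN hty2 x hx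
      rw [hcomm x hx, inv_inj, mul_inv_eq_iff_eq_mul] at h1
      exact hyP (hCx ▸ mem_centralizer_singleton_iff.mpr h1)
    have hty1 : t * y ≠ 1 := fun e => hy2 (by
      rw [show y = t by rw [← hti]; exact (inv_eq_of_mul_eq_one_right e).symm]; exact ht2)
    have htyodd : Odd (orderOf (t * y)) := (hG.prime_order _ hty1).odd_of_ne_two hty2
    -- the odd power of `t * y` inverts composed with the odd power of `y`
    have key : ∀ n : ℕ, Odd n → ∀ z ∈ (P : Subgroup G),
        (t * y) ^ n * z * ((t * y) ^ n)⁻¹ = (y ^ n * z * (y ^ n)⁻¹)⁻¹ := by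
      rintro n ⟨k, rfl⟩
      induction k with
      | zero => simpa using hcomm
      | succ k ih =>
        intro z hz
        have hz1 := (mem_normalizer_iff.mp hy _).mp ((mem_normalizer_iff.mp hy z).mp hz)
        have e : (t * y) * ((t * y) * z * (t * y)⁻¹) * (t * y)⁻¹ = y * (y * z * y⁻¹) * y⁻¹ := by
          rw [hcomm z hz, hcomm _ (inv_mem ((mem_normalizer_iff.mp hy z).mp hz))]
          simp [mul_assoc, mul_inv_rev]
        rw [show 2 * (k + 1) + 1 = (2 * k + 1) + 1 + 1 by ring, pow_succ, pow_succ,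
          show (t * y) ^ (2 * k + 1) * (t * y) * (t * y) * z *
              ((t * y) ^ (2 * k + 1) * (t * y) * (t * y))⁻¹ = (t * y) ^ (2 * k + 1) *
              ((t * y) * ((t * y) * z * (t * y)⁻¹) * (t * y)⁻¹) * ((t * y) ^ (2 * k + 1))⁻¹ by group,
          e, ih _ hz1]
        simp only [pow_succ, mul_inv_rev, mul_assoc, inv_inv]
    have h1 := key _ htyodd x hx
    rw [pow_orderOf_eq_one, one_mul, inv_one, mul_one, eq_comm, inv_eq_iff_eq_inv] at h1
    set n := orderOf (t * y)
    have hodd' : Odd (orderOf (y ^ n)) := hyodd.of_dvd_nat (orderOf_pow_dvd n)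
    exact hG.ne_inv_of_odd hxo hp2 hodd' h1
  refine ⟨hab, hinvt, hinvol, ?_⟩
  -- `N = P ∪ t P`
  have htP : t ∉ (P : Subgroup G) := fun h => hp2 ((hG.orderOf_eq_of_mem P.2 h (fun e => by
    rw [e, orderOf_one] at ht2; norm_num at ht2)).symm.trans ht2)
  set N := normalizer ((P : Subgroup G) : Set G)
  have hidx : ((P : Subgroup G).subgroupOf N).index = 2 := by
    rw [Subgroup.index_eq_two_iff]
    refine ⟨⟨t, ht⟩, fun b => ?_⟩
    simp only [Subgroup.mem_subgroupOf, Subgroup.coe_mul, xor_iff_not_iff]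
    by_cases hb : (b : G) ∈ (P : Subgroup G)
    · simp only [hb, iff_true]
      exact fun h => htP (by simpa using (P : Subgroup G).mul_mem ((P : Subgroup G).inv_mem hb) h)
    · simp only [hb, iff_false, not_not]
      have hb2 := hinvol _ b.2 hb
      have h1 := hfix _ b.2 hb2
      rw [← hCx, mem_centralizer_singleton_iff]
      have h2 : (b : G) * t * x * ((b : G) * t)⁻¹ = x := by
        rw [show (b : G) * t * x * ((b : G) * t)⁻¹ = (b : G) * (t * x * t⁻¹) * (b : G)⁻¹ by group,
          hinvt x hx, h1 _ (inv_mem hx), inv_inv]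
      exact mul_inv_eq_iff_eq_mul.mp h2
  have := Subgroup.card_mul_index ((P : Subgroup G).subgroupOf N)
  rw [hidx, Nat.card_congr (subgroupOfEquivOfLe le_normalizer).toEquiv] at this
  rw [← this, mul_comm]

end IsPrimeElementGroup

end Cfsg.Agent.Lib.PrimeElements
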