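import Mathlib
import Cfsg.Agent.Lib.PrimeElements.Structure
import Cfsg.Agent.Lib.Coprime.Generation

/-!
Counting elements and pairs of involutions in groups whose elements have prime order.
-/

set_option autoImplicit false

namespace Cfsg.Agent.Lib.PrimeElements

open Subgroup
open scoped Pointwise

universe u

variable {G : Type u} [Group G] [Finite G]

/-- The number of elements of a given order. -/
noncomputable def numOrder (G : Type u) [Group G] (n : ℕ) : ℕ := Nat.card {y : G | orderOf y = n}

theorem card_eq_numSylow_mul {p : ℕ} [Fact p.Prime] (P : Sylow p G) :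
    Nat.card G = Nat.card (Sylow p G) * Nat.card (normalizer ((P : Subgroup G) : Set G)) := by
  rw [P.card_eq_index_normalizer]
  exact (Subgroup.index_mul_card _).symm

theorem card_eq_prod_sylow {r s t : ℕ} [Fact r.Prime] [Fact s.Prime] [Fact t.Prime] (hrs : r ≠ s) (hrt : r ≠ t)
    (hst : s ≠ t) (hπ : (Nat.card G).primeFactors = {r, s, t}) (R : Sylow r G) (S : Sylow s G)
    (T : Sylow t G) : Nat.card G =
      Nat.card (R : Subgroup G) * Nat.card (S : Subgroup G) * Nat.card (T : Subgroup G) := by
  have := Nat.factorization_prod_pow_eq_self (n := Nat.card G) Nat.card_pos.ne'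
  rw [Finsupp.prod, Nat.support_factorization, hπ, Finset.prod_insert (by simp [hrs, hrt]),
    Finset.prod_insert (by simp [hst]), Finset.prod_singleton, ← mul_assoc] at this
  rw [R.card_eq_multiplicity, S.card_eq_multiplicity, T.card_eq_multiplicity]
  exact this.symm

namespace IsPrimeElementGroup

variable (hG : IsPrimeElementGroup G) {p : ℕ} [hp : Fact p.Prime]
include hG

theorem sum_numOrder {r s t : ℕ} (hrs : r ≠ s) (hrt : r ≠ t) (hst : s ≠ t)
    (hπ : (Nat.card G).primeFactors = {r, s, t}) :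
    Nat.card G = 1 + numOrder G r + numOrder G s + numOrder G t := by
  classical
  haveI := Fintype.ofFinite G
  have hcard : ∀ n, numOrder G n = (Finset.univ.filter fun y : G => orderOf y = n).card := fun n => by
    rw [numOrder, Nat.card_eq_card_toFinset]
    congr 1; ext y; simp
  have hr := Nat.prime_of_mem_primeFactors (show r ∈ (Nat.card G).primeFactors by rw [hπ]; simp)
  have hs := Nat.prime_of_mem_primeFactors (show s ∈ (Nat.card G).primeFactors by rw [hπ]; simp)
  have ht := Nat.prime_of_mem_primeFactors (show t ∈ (Nat.card G).primeFactors by rw [hπ]; simp)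
  have hmem : ∀ y ∈ (Finset.univ : Finset G), orderOf y ∈ ({1, r, s, t} : Finset ℕ) := by
    intro y _
    by_cases hy : y = 1
    · simp [hy]
    · rcases mem_or_eq_of_dvd hG hπ (hG.prime_order y hy) (orderOf_dvd_natCard y) with h | h | h <;>
        simp [h]
  rw [Nat.card_eq_fintype_card, ← Finset.card_univ, Finset.card_eq_sum_card_fiberwise hmem,
    Finset.sum_insert (by simp [hr.ne_one.symm, hs.ne_one.symm, ht.ne_one.symm]),
    Finset.sum_insert (by simp [hrs, hrt]), Finset.sum_insert (by simp [hst]),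
    Finset.sum_singleton]
  have h1 : (Finset.univ.filter fun y : G => orderOf y = 1).card = 1 := by
    rw [Finset.card_eq_one]
    exact ⟨1, by ext y; simp⟩
  rw [h1, hcard r, hcard s, hcard t]; ring

theorem numOrder_le (P : Sylow p G) :
    numOrder G p + Nat.card (Sylow p G) ≤
      Nat.card (Sylow p G) * Nat.card (center (P : Subgroup G)) := by
  classical
  haveI := Fintype.ofFinite (Sylow p G)
  have hex : ∀ y : {y : G | orderOf y = p}, ∃ Q : Sylow p G,
      (Q : Subgroup G) = centralizer ({(y : G)} : Set G) := fun y =>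
    hG.exists_sylow_eq_centralizer y.2
  choose Q hQ using hex
  have hmem : ∀ y : {y : G | orderOf y = p}, (y : G) ∈ (Q y : Subgroup G) := fun y => by
    rw [hQ]; exact mem_centralizer_singleton_iff.mpr rfl
  let f : {y : G | orderOf y = p} → Σ R : Sylow p G, {z : center (R : Subgroup G) | z ≠ 1} :=
    fun y => ⟨Q y, ⟨⟨⟨y, hmem y⟩, mem_center_iff.mpr fun u => Subtype.ext (by
      have hu : (u : G) ∈ centralizer ({(y : G)} : Set G) := hQ y ▸ u.2
      exact mem_centralizer_singleton_iff.mp hu)⟩, fun e => by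
        have h1 : (y : G) = 1 := congrArg (fun z : center (Q y : Subgroup G) => ((z : (Q y : Subgroup G)) : G)) e
        have h2 : orderOf (y : G) = p := y.2
        rw [h1, orderOf_one] at h2
        exact hp.out.ne_one h2.symm⟩⟩
  have hf : Function.Injective f := by
    intro y y' h
    exact Subtype.ext (congrArg
      (fun v : Σ R : Sylow p G, {z : center (R : Subgroup G) | z ≠ 1} => ((v.2.1 : (v.1 : Subgroup G)) : G)) h)
  have hle := Nat.card_le_card_of_injective f hf
  have hc : ∀ R : Sylow p G, Nat.card {z : center (R : Subgroup G) | z ≠ 1} + 1 =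
      Nat.card (center (P : Subgroup G)) := by
    intro R
    rw [Nat.card_coe_set_eq, show {z : center (R : Subgroup G) | z ≠ 1} = Set.univ \ {1} by ext; simp,
      Set.ncard_sdiff_singleton_add_one (Set.mem_univ _) (Set.toFinite _), Set.ncard_univ]
    exact Nat.card_congr (Subgroup.centerCongr (R.equiv P)).toEquiv
  rw [numOrder]
  refine le_trans (Nat.add_le_add_right hle _) (le_of_eq ?_)
  rw [Nat.card_sigma, Nat.card_eq_fintype_card (α := Sylow p G), ← Finset.card_univ,
    Finset.card_eq_sum_ones, ← Finset.sum_add_distrib, Finset.sum_congr rfl (fun R _ => hc R),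
    Finset.sum_const, smul_eq_mul, ← Finset.card_eq_sum_ones]

theorem numOrder_eq (P : Sylow p G) (hab : IsMulCommutative (P : Subgroup G)) :
    numOrder G p + Nat.card (Sylow p G) = Nat.card (Sylow p G) * Nat.card (P : Subgroup G) := by
  classical
  haveI := Fintype.ofFinite (Sylow p G)
  have habR : ∀ R : Sylow p G, IsMulCommutative (R : Subgroup G) := fun R => by
    refine ⟨⟨fun a b => ?_⟩⟩
    refine (R.equiv P).injective ?_
    rw [map_mul, map_mul]
    exact hab.is_comm.comm _ _
  let f : (Σ R : Sylow p G, {z : (R : Subgroup G) | z ≠ 1}) → {y : G | orderOf y = p} := fun v =>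
    ⟨((v.2.1 : (v.1 : Subgroup G)) : G),
      hG.orderOf_eq_of_mem v.1.2 (v.2.1).2 fun e => v.2.2 (Subtype.ext e)⟩
  have hf : Function.Bijective f := by
    refine ⟨?_, ?_⟩
    · rintro ⟨R, ⟨z, hz⟩⟩ ⟨R', ⟨z', hz'⟩⟩ h
      have hzz : (z : G) = z' := congrArg Subtype.val h
      have hz1 : (z : G) ≠ 1 := fun e => hz (Subtype.ext e)
      obtain rfl : R = R' := Sylow.ext (by
        rw [← hG.centralizer_eq (habR R) z.2 hz1, hzz,
          hG.centralizer_eq (habR R') z'.2 (hzz ▸ hz1)])
      obtain rfl : z = z' := Subtype.ext hzz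
      rfl
    · rintro ⟨y, hy⟩
      obtain ⟨R, hR⟩ := (hG.centralizer_isPGroup hy).exists_le_sylow
      refine ⟨⟨R, ⟨⟨y, hR (mem_centralizer_singleton_iff.mpr rfl)⟩, fun e => ?_⟩⟩, rfl⟩
      have h1 : y = 1 := congrArg Subtype.val e
      have h2 : orderOf y = p := hy
      rw [h1, orderOf_one] at h2
      exact hp.out.ne_one h2.symm
  have hc : ∀ R : Sylow p G, Nat.card {z : (R : Subgroup G) | z ≠ 1} + 1 =
      Nat.card (P : Subgroup G) := by
    intro R
    rw [Nat.card_coe_set_eq, show {z : (R : Subgroup G) | z ≠ 1} = Set.univ \ {1} by ext; simp,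
      Set.ncard_sdiff_singleton_add_one (Set.mem_univ _) (Set.toFinite _), Set.ncard_univ]
    exact Nat.card_congr (R.equiv P).toEquiv
  rw [numOrder, ← Nat.card_eq_of_bijective f hf, Nat.card_sigma,
    Nat.card_eq_fintype_card (α := Sylow p G), ← Finset.card_univ, Finset.card_eq_sum_ones,
    ← Finset.sum_add_distrib, Finset.sum_congr rfl (fun R _ => hc R), Finset.sum_const, smul_eq_mul,
    ← Finset.card_eq_sum_ones]

/-- Some odd prime has a Sylow normalizer containing an involution. -/
theorem exists_real : ∃ p : ℕ, p.Prime ∧ p ≠ 2 ∧ p ∣ Nat.card G ∧ ∃ (P : Sylow p G) (t : G),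
    t ∈ normalizer ((P : Subgroup G) : Set G) ∧ orderOf t = 2 := by
  classical
  by_contra hno
  push Not at hno
  haveI : Fact (Nat.Prime 2) := ⟨Nat.prime_two⟩
  obtain ⟨r, s, t, hrs, hrt, hst, hπ⟩ := Finset.card_eq_three.mp hG.three
  have key : ∀ l ∈ (Nat.card G).primeFactors,
      3 * (numOrder G l + 1) ≤ Nat.card G := by
    intro l hl
    obtain ⟨hlp, hld, -⟩ := Nat.mem_primeFactors.mp hl
    haveI := Fact.mk hlp
    obtain ⟨P⟩ : Nonempty (Sylow l G) := inferInstance
    set N := normalizer ((P : Subgroup G) : Set G)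
    have hb := hG.numOrder_le P
    have hn : 1 ≤ Nat.card (Sylow l G) := Nat.card_pos
    have hZP : Nat.card (center (P : Subgroup G)) ∣ Nat.card (P : Subgroup G) :=
      Subgroup.card_subgroup_dvd_card _
    have hG' := card_eq_numSylow_mul P
    suffices h3 : 3 * Nat.card (center (P : Subgroup G)) ≤ Nat.card N by
      calc 3 * (numOrder G l + 1) ≤ 3 * (Nat.card (Sylow l G) * Nat.card (center (P : Subgroup G))) :=
            Nat.mul_le_mul_left 3 (by omega)
        _ = Nat.card (Sylow l G) * (3 * Nat.card (center (P : Subgroup G))) := by ring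
        _ ≤ Nat.card (Sylow l G) * Nat.card N := Nat.mul_le_mul_left _ h3
        _ = Nat.card G := hG'.symm
    have hPN : (P : Subgroup G) ≤ N := le_normalizer
    obtain ⟨w, hw⟩ := Subgroup.card_dvd_of_le hPN
    by_cases hw1 : w = 1
    · -- a self-normalising Sylow subgroup is non-abelian
      have hNP : N = P := (Subgroup.eq_of_le_of_card_ge hPN (by rw [hw, hw1, mul_one])).symm
      have hnab : ¬ IsMulCommutative (P : Subgroup G) := fun h => hG.normalizer_ne h hld hNP
      have hl2 : l ≠ 2 := fun h => hnab (by subst h; exact hG.sylow_two_comm P)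
      obtain ⟨c, hc⟩ := hZP
      obtain ⟨k, hk⟩ := P.2.exists_card_eq
      have hcd : c ∣ l ^ k := hk ▸ hc ▸ dvd_mul_left c _
      obtain ⟨i, -, rfl⟩ := (Nat.dvd_prime_pow hlp).mp hcd
      rw [hw, hw1, mul_one, hc, mul_comm 3]
      refine Nat.mul_le_mul_left _ ?_
      rcases Nat.eq_zero_or_pos i with rfl | hi
      · exfalso
        rw [pow_zero, mul_one] at hc
        refine hnab ⟨⟨fun a b => ?_⟩⟩
        have htop : center (P : Subgroup G) = ⊤ := Subgroup.eq_top_of_card_eq _ hc.symm
        exact mem_center_iff.mp (htop.symm ▸ mem_top b : b ∈ center (P : Subgroup G)) a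
      · refine le_trans ?_ (Nat.le_self_pow hi.ne' l)
        have := hlp.two_le
        omega
    · have hw0 : w ≠ 0 := fun e => by
        rw [e, mul_zero] at hw
        exact absurd hw Nat.card_pos.ne'
      have hw2 : w ≠ 2 := by
        intro e
        subst e
        obtain ⟨⟨u, hu⟩, hu2⟩ := exists_prime_orderOf_dvd_card' (G := N) 2 (hw ▸ dvd_mul_left 2 _)
        rw [Subgroup.orderOf_mk] at hu2
        by_cases hl2 : l = 2
        · subst hl2
          obtain ⟨k, hk⟩ := P.2.exists_card_eq
          have h1 : ((P : Subgroup G).subgroupOf N).index = 2 := by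
            have := Subgroup.card_mul_index ((P : Subgroup G).subgroupOf N)
            rw [Nat.card_congr (subgroupOfEquivOfLe hPN).toEquiv, hw] at this
            exact Nat.eq_of_mul_eq_mul_left Nat.card_pos this
          have h2 : (2 : ℕ) ∣ ((P.subtype hPN : Sylow 2 N) : Subgroup N).index := by
            rw [Sylow.coe_subtype, h1]
          exact (P.subtype hPN).not_dvd_index h2
        · exact hno l hlp hl2 hld P u hu hu2
      calc 3 * Nat.card (center (P : Subgroup G)) ≤ w * Nat.card (P : Subgroup G) :=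
            Nat.mul_le_mul (by omega) (Nat.le_of_dvd Nat.card_pos hZP)
        _ = Nat.card N := by rw [hw, mul_comm]
  have hr := key r (by rw [hπ]; simp)
  have hs := key s (by rw [hπ]; simp)
  have ht := key t (by rw [hπ]; simp)
  have hsum := hG.sum_numOrder hrs hrt hst hπ
  omega

/-- Pairs of involutions. -/
theorem numOrder_two_sq {s t : ℕ} [Fact (Nat.Prime 2)] (S : Sylow 2 G) (hs : 2 ≠ s) (ht : 2 ≠ t)
    (hst : s ≠ t) (hπ : (Nat.card G).primeFactors = {2, s, t}) (Fs Ft : ℕ)
    (hFs : ∀ y : G, orderOf y = s → Nat.card {u : G | orderOf u = 2 ∧ orderOf (u * y) = 2} = Fs)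
    (hFt : ∀ y : G, orderOf y = t → Nat.card {u : G | orderOf u = 2 ∧ orderOf (u * y) = 2} = Ft) :
    numOrder G 2 * numOrder G 2 + numOrder G 2 =
      numOrder G 2 * Nat.card (S : Subgroup G) + numOrder G s * Fs + numOrder G t * Ft := by
  classical
  haveI := Fintype.ofFinite G
  set F : G → ℕ := fun y => Nat.card {u : G | orderOf u = 2 ∧ orderOf (u * y) = 2} with hF
  let I : Finset G := Finset.univ.filter fun u => orderOf u = 2
  have hI : ∀ n, numOrder G n = (Finset.univ.filter fun y : G => orderOf y = n).card := fun n => by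
    rw [numOrder, Nat.card_eq_card_toFinset]
    congr 1; ext y; simp
  have hinv : ∀ u : G, orderOf u = 2 → u * u = 1 := fun u hu => by
    rw [← sq, ← hu, pow_orderOf_eq_one]
  -- all pairs, sorted by their product
  have htot : numOrder G 2 * numOrder G 2 = ∑ y : G, F y := by
    rw [hI, ← Finset.card_product,
      Finset.card_eq_sum_card_fiberwise (f := fun v : G × G => v.1 * v.2)
        (t := Finset.univ) (fun v _ => Finset.mem_univ _)]
    refine Finset.sum_congr rfl fun y _ => ?_
    simp only [hF]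
    rw [Nat.card_eq_card_toFinset]
    refine Finset.card_bij (fun v _ => v.1) ?_ ?_ ?_
    · rintro ⟨u, v⟩ h
      simp only [Finset.mem_filter, Finset.mem_product, Finset.mem_univ, true_and] at h
      obtain ⟨⟨hu, hv⟩, rfl⟩ := h
      simp only [Set.mem_toFinset, Set.mem_setOf_eq]
      exact ⟨hu, by rw [← mul_assoc, hinv u hu, one_mul]; exact hv⟩
    · rintro ⟨u, v⟩ h ⟨u', v'⟩ h' (rfl : u = u')
      simp only [Finset.mem_filter, Finset.mem_product, Finset.mem_univ, true_and] at h h'
      obtain rfl := mul_left_cancel (h.2.trans h'.2.symm)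
      rfl
    · intro u hu
      simp only [Set.mem_toFinset, Set.mem_setOf_eq] at hu
      refine ⟨(u, u * y), ?_, rfl⟩
      simp only [Finset.mem_filter, Finset.mem_product, Finset.mem_univ, true_and]
      exact ⟨⟨hu.1, hu.2⟩, by rw [← mul_assoc, hinv u hu.1, one_mul]⟩
  have h2val : ∀ y : G, orderOf y = 2 → F y + 2 = Nat.card (S : Subgroup G) := by
    intro y hy
    have hcard := hG.card_centralizer hy S
    have hCo : ∀ u ∈ centralizer ({y} : Set G), u ≠ 1 → orderOf u = 2 := fun u hu hu1 =>
      hG.orderOf_eq_of_mem (hG.centralizer_isPGroup hy) hu hu1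
    have hset : {u : G | orderOf u = 2 ∧ orderOf (u * y) = 2} =
        (centralizer ({y} : Set G) : Set G) \ {1, y} := by
      ext u
      simp only [Set.mem_setOf_eq, Set.mem_sdiff, SetLike.mem_coe, Set.mem_insert_iff,
        Set.mem_singleton_iff, not_or]
      have hyi : y⁻¹ = y := inv_eq_of_mul_eq_one_right (hinv y hy)
      constructor
      · rintro ⟨hu, huy⟩
        refine ⟨mem_centralizer_singleton_iff.mpr ?_, fun e => ?_, fun e => ?_⟩
        · have h := inv_eq_of_mul_eq_one_right (hinv _ huy)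
          rw [mul_inv_rev, hyi, inv_eq_of_mul_eq_one_right (hinv u hu)] at h
          exact h.symm
        · rw [e, orderOf_one] at hu; norm_num at hu
        · rw [e, hinv y hy, orderOf_one] at huy; norm_num at huy
      · rintro ⟨hu, hu1, huy⟩
        have hyC : y ∈ centralizer ({y} : Set G) := mem_centralizer_singleton_iff.mpr rfl
        refine ⟨hCo u hu hu1, hCo _ (mul_mem hu hyC) fun e => huy ?_⟩
        rw [eq_inv_of_mul_eq_one_left e, hyi]
    simp only [hF]
    rw [hset, Nat.card_coe_set_eq, ← hcard, ← SetLike.coe_sort_coe, Nat.card_coe_set_eq]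
    have hy1 : (1 : G) ≠ y := fun e => by rw [← e, orderOf_one] at hy; norm_num at hy
    have hsub : ({1, y} : Set G) ⊆ (centralizer ({y} : Set G) : Set G) := by
      rintro u (rfl | rfl)
      · exact one_mem _
      · exact mem_centralizer_singleton_iff.mpr rfl
    have h := Set.ncard_sdiff_add_ncard_of_subset hsub (Set.toFinite _)
    rw [Set.ncard_pair hy1] at h
    exact h
  have h1val : F 1 = numOrder G 2 := by
    simp only [hF, numOrder, mul_one, and_self]
  have hmem : ∀ y ∈ (Finset.univ : Finset G), orderOf y ∈ ({1, 2, s, t} : Finset ℕ) := by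
    intro y _
    by_cases hy : y = 1
    · simp [hy]
    · rcases mem_or_eq_of_dvd hG hπ (hG.prime_order y hy) (orderOf_dvd_natCard y) with h | h | h <;>
        simp [h]
  have hsp := Nat.prime_of_mem_primeFactors (show s ∈ (Nat.card G).primeFactors by rw [hπ]; simp)
  have htp := Nat.prime_of_mem_primeFactors (show t ∈ (Nat.card G).primeFactors by rw [hπ]; simp)
  rw [htot, ← Finset.sum_fiberwise_of_maps_to hmem F,
    Finset.sum_insert (by simp [hsp.ne_one.symm, htp.ne_one.symm]),
    Finset.sum_insert (by simp [hs, ht]), Finset.sum_insert (by simp [hst]), Finset.sum_singleton]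
  have e1 : ∑ y ∈ Finset.univ.filter (fun y : G => orderOf y = 1), F y = numOrder G 2 := by
    rw [show (Finset.univ.filter fun y : G => orderOf y = 1) = {1} by ext; simp,
      Finset.sum_singleton, h1val]
  have e2 : ∑ y ∈ Finset.univ.filter (fun y : G => orderOf y = 2), F y + 2 * numOrder G 2 =
      numOrder G 2 * Nat.card (S : Subgroup G) := by
    rw [hI, mul_comm 2, ← smul_eq_mul, ← Finset.sum_const, ← Finset.sum_add_distrib,
      Finset.sum_congr rfl (fun y hy => h2val y (Finset.mem_filter.mp hy).2), Finset.sum_const,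
      smul_eq_mul]
  have e3 : ∀ n c, (∀ y : G, orderOf y = n → F y = c) →
      ∑ y ∈ Finset.univ.filter (fun y : G => orderOf y = n), F y = numOrder G n * c := by
    intro n c h
    rw [hI, Finset.sum_congr rfl (fun y hy => h y (Finset.mem_filter.mp hy).2), Finset.sum_const,
      smul_eq_mul]
  rw [e1, e3 s Fs hFs, e3 t Ft hFt]
  omega

theorem pairs_real {p : ℕ} [hp : Fact p.Prime] (hp2 : p ≠ 2) (hd : p ∣ Nat.card G) (P : Sylow p G) {t : G}
    (ht : t ∈ normalizer ((P : Subgroup G) : Set G)) (ht2 : orderOf t = 2) (y : G) (hy : orderOf y = p) :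
    Nat.card {u : G | orderOf u = 2 ∧ orderOf (u * y) = 2} = Nat.card (P : Subgroup G) := by
  obtain ⟨hab, hinv, hinvol, hcard⟩ := hG.real_sylow hp2 hd P ht ht2
  obtain ⟨Q, hQ⟩ := hG.exists_sylow_eq_centralizer hy
  obtain ⟨g, rfl⟩ := MulAction.exists_smul_eq G P Q
  have hmem : ∀ x : G, x ∈ ((g • P : Sylow p G) : Subgroup G) ↔ g⁻¹ * x * g ∈ (P : Subgroup G) := by
    intro x
    rw [Sylow.coe_subgroup_smul, mem_pointwise_smul_iff_inv_smul_mem, ← map_inv, MulAut.smul_def,
      MulAut.conj_apply, inv_inv]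
  have hyP : g⁻¹ * y * g ∈ (P : Subgroup G) :=
    (hmem y).mp (hQ ▸ mem_centralizer_singleton_iff.mpr rfl)
  set x := g⁻¹ * y * g with hx
  have hxo : orderOf x = p := by
    rw [hx, ← hy]
    have := orderOf_injective (MulAut.conj g⁻¹).toMonoidHom (MulAut.conj g⁻¹).injective y
    simpa using this
  have hxC : centralizer ({x} : Set G) = P := hG.centralizer_eq hab hyP fun e => by
    rw [e, orderOf_one] at hxo; exact hp.out.ne_one hxo.symm
  have hoc : ∀ u : G, orderOf (g * u * g⁻¹) = orderOf u := fun u =>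
    orderOf_injective (MulAut.conj g).toMonoidHom (MulAut.conj g).injective u
  have hsq : ∀ u : G, orderOf u = 2 → u⁻¹ = u := fun u hu =>
    inv_eq_of_mul_eq_one_right (by rw [← sq, ← hu, pow_orderOf_eq_one])
  have htP : t ∉ (P : Subgroup G) := fun h => hp2 ((hG.orderOf_eq_of_mem P.2 h (fun e => by
    rw [e, orderOf_one] at ht2; norm_num at ht2)).symm.trans ht2)
  let f : ↥(P : Subgroup G) → {u : G | orderOf u = 2 ∧ orderOf (u * y) = 2} := fun z =>
    ⟨g * (t * z) * g⁻¹, by
      refine ⟨?_, ?_⟩
      · rw [hoc]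
        exact hinvol _ (mul_mem ht (le_normalizer z.2)) fun h => htP (by
          have := (P : Subgroup G).mul_mem h ((P : Subgroup G).inv_mem z.2)
          rwa [mul_inv_cancel_right] at this)
      · rw [show g * (t * (z : G)) * g⁻¹ * y = g * (t * ((z : G) * x)) * g⁻¹ by rw [hx]; group, hoc]
        refine hinvol _ (mul_mem ht (le_normalizer ((P : Subgroup G).mul_mem z.2 hyP))) fun h => htP ?_
        have := (P : Subgroup G).mul_mem h ((P : Subgroup G).inv_mem ((P : Subgroup G).mul_mem z.2 hyP))
        rwa [mul_inv_cancel_right] at this⟩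
  refine (Nat.card_eq_of_bijective f ⟨fun a b h => ?_, ?_⟩).symm
  · have h' : g * (t * (a : G)) * g⁻¹ = g * (t * (b : G)) * g⁻¹ := congrArg Subtype.val h
    exact Subtype.ext (mul_left_cancel (mul_left_cancel (mul_right_cancel h')))
  · rintro ⟨u, hu, huy⟩
    set v := g⁻¹ * u * g with hv
    have hv2 : orderOf v = 2 := by rw [← hoc v, hv, show g * (g⁻¹ * u * g) * g⁻¹ = u by group]; exact hu
    have hvx : orderOf (v * x) = 2 := by
      rw [← hoc, hv, hx, show g * (g⁻¹ * u * g * (g⁻¹ * y * g)) * g⁻¹ = u * y by group]; exact huy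
    have hvinv : v * x * v⁻¹ = x⁻¹ := by
      have h := hsq _ hvx
      rw [mul_inv_rev] at h
      rw [hsq v hv2]
      calc v * x * v = (x⁻¹ * v⁻¹) * v := by rw [h]
        _ = x⁻¹ := by group
    have hvC : t * v ∈ centralizer ({x} : Set G) := by
      rw [mem_centralizer_singleton_iff, ← mul_inv_eq_iff_eq_mul,
        show t * v * x * (t * v)⁻¹ = t * (v * x * v⁻¹) * t⁻¹ by group, hvinv,
        hinv _ ((P : Subgroup G).inv_mem hyP), inv_inv]
    rw [hxC] at hvC
    refine ⟨⟨t * v, hvC⟩, Subtype.ext ?_⟩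
    show g * (t * (t * v)) * g⁻¹ = u
    rw [← mul_assoc t t, show t * t = 1 by rw [← sq, ← ht2, pow_orderOf_eq_one], one_mul, hv]
    group

theorem pairs_zero {q : ℕ} [hq : Fact q.Prime]
    (hno : ∀ (Q : Sylow q G) (t : G), t ∈ normalizer ((Q : Subgroup G) : Set G) → orderOf t ≠ 2)
    (y : G) (hy : orderOf y = q) :
    Nat.card {u : G | orderOf u = 2 ∧ orderOf (u * y) = 2} = 0 := by
  rw [Nat.card_eq_zero]
  refine Or.inl ⟨fun ⟨u, hu, huy⟩ => ?_⟩
  obtain ⟨Q, hQ⟩ := hG.exists_sylow_eq_centralizer hy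
  refine hno Q u ?_ hu
  have hsq : ∀ u : G, orderOf u = 2 → u⁻¹ = u := fun u hu =>
    inv_eq_of_mul_eq_one_right (by rw [← sq, ← hu, pow_orderOf_eq_one])
  have hinv : u * y * u⁻¹ = y⁻¹ := by
    have h := hsq _ huy
    rw [mul_inv_rev] at h
    rw [hsq u hu]
    calc u * y * u = (y⁻¹ * u⁻¹) * u := by rw [h]
      _ = y⁻¹ := by group
  have hmap : ∀ z ∈ (Q : Subgroup G), u * z * u⁻¹ ∈ (Q : Subgroup G) := by
    intro z hz
    rw [hQ, mem_centralizer_singleton_iff] at hz ⊢
    have hy' : u * y⁻¹ * u⁻¹ = y := by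
      rw [show u * y⁻¹ * u⁻¹ = (u * y * u⁻¹)⁻¹ by group, hinv, inv_inv]
    conv_lhs => rw [← hy']
    conv_rhs => rw [← hy']
    have hc : z * y⁻¹ = y⁻¹ * z := ((show Commute z y from hz).inv_right).eq
    calc u * z * u⁻¹ * (u * y⁻¹ * u⁻¹) = u * (z * y⁻¹) * u⁻¹ := by group
      _ = u * (y⁻¹ * z) * u⁻¹ := by rw [hc]
      _ = u * y⁻¹ * u⁻¹ * (u * z * u⁻¹) := by group
  rw [mem_normalizer_iff]
  refine fun z => ⟨hmap z, fun hz => ?_⟩
  have := hmap _ hz
  rw [show u * (u * z * u⁻¹) * u⁻¹ = (u * u) * z * (u * u)⁻¹ by group,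
    show u * u = 1 by rw [← sq, ← hu, pow_orderOf_eq_one], one_mul, inv_one, mul_one] at this
  exact this

/-- Prime divisors of the normalizer index of a Sylow `2`-subgroup. -/
theorem normalizer_two_index [Fact (Nat.Prime 2)] (S : Sylow 2 G) {r : ℕ} [hr : Fact r.Prime]
    (hr2 : r ≠ 2) (hd : r ∣ Nat.card (normalizer ((S : Subgroup G) : Set G))) :
    r ∣ Nat.card (S : Subgroup G) - 1 ∧
      ¬ r ^ 2 ∣ Nat.card (normalizer ((S : Subgroup G) : Set G)) := by
  set N := normalizer ((S : Subgroup G) : Set G)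
  have hfix : ∀ x : G, orderOf x = r → (S : Subgroup G) ⊓ centralizer ({x} : Set G) = ⊥ := by
    intro x hx
    exact (IsPGroup.disjoint_of_ne 2 r (Ne.symm hr2) _ _ S.2 (hG.centralizer_isPGroup hx)).eq_bot
  constructor
  · obtain ⟨⟨x, hxN⟩, hxo⟩ := exists_prime_orderOf_dvd_card' (G := N) r hd
    rw [Subgroup.orderOf_mk] at hxo
    have hZ : IsPGroup r (zpowers x) := IsPGroup.of_card (n := 1) (by rw [Nat.card_zpowers, hxo, pow_one])
    letI : MulAction (zpowers x) (S : Subgroup G) := MulAction.compHom (S : Subgroup G)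
      ((S : Subgroup G).normalizerMonoidHom.comp (inclusion (zpowers_le.mpr hxN)))
    have hmod := hZ.card_modEq_card_fixedPoints (S : Subgroup G)
    have hfp : MulAction.fixedPoints (zpowers x) (S : Subgroup G) = {1} := by
      ext z
      simp only [MulAction.mem_fixedPoints, Set.mem_singleton_iff]
      constructor
      · intro hz
        have e : x * z * x⁻¹ = (z : G) := congrArg Subtype.val (hz ⟨x, mem_zpowers x⟩)
        have hzb : (z : G) ∈ (S : Subgroup G) ⊓ centralizer ({x} : Set G) :=
          ⟨z.2, mem_centralizer_singleton_iff.mpr (mul_inv_eq_iff_eq_mul.mp e).symm⟩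
        rw [hfix x hxo, mem_bot] at hzb
        exact Subtype.ext hzb
      · rintro rfl a
        exact Subtype.ext (show (a : G) * ((1 : (S : Subgroup G)) : G) * (a : G)⁻¹ = _ by simp)
    rw [hfp] at hmod
    have h1 : Nat.card ({1} : Set (S : Subgroup G)) = 1 := by simp
    rw [h1] at hmod
    exact (Nat.modEq_iff_dvd' Nat.card_pos).mp hmod.symm
  · intro hsq
    obtain ⟨R⟩ : Nonempty (Sylow r N) := inferInstance
    set R' := (R : Subgroup N).map N.subtype
    have hR' : IsPGroup r R' := R.2.map _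
    have hRcard : r ^ 2 ∣ Nat.card R' := by
      rw [Subgroup.card_map_of_injective N.subtype_injective]
      exact R.pow_dvd_card_of_pow_dvd_card hsq
    haveI : Nontrivial R' := Finite.one_lt_card_iff_nontrivial.mp
      (lt_of_lt_of_le (Nat.one_lt_pow two_ne_zero hr.out.one_lt) (Nat.le_of_dvd Nat.card_pos hRcard))
    haveI := hR'.center_nontrivial
    obtain ⟨⟨z, hzc⟩, hz1⟩ := exists_ne (1 : center R')
    have hz1' : (z : G) ≠ 1 := fun h => hz1 (Subtype.ext (Subtype.ext h))
    have hzo : orderOf (z : G) = r := hG.orderOf_eq_of_mem hR' z.2 hz1'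
    obtain ⟨a, haR, haz⟩ : ∃ a ∈ R', a ∉ zpowers (z : G) := by
      by_contra hno
      push Not at hno
      have h1 := Nat.le_of_dvd Nat.card_pos hRcard
      have h2 := Subgroup.card_le_of_le (show R' ≤ zpowers (z : G) from hno)
      rw [Nat.card_zpowers, hzo] at h2
      have h3 : r ^ 1 < r ^ 2 := Nat.pow_lt_pow_right hr.out.one_lt (by norm_num)
      rw [pow_one] at h3
      omega
    have hab : Commute a (z : G) := congrArg Subtype.val (mem_center_iff.mp hzc ⟨a, haR⟩)
    have hpow : ∀ u ∈ R', u ^ r = 1 := fun u hu => by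
      by_cases hu1 : u = 1
      · rw [hu1, one_pow]
      · rw [← hG.orderOf_eq_of_mem hR' hu hu1, pow_orderOf_eq_one]
    have hcl : closure {a, (z : G)} ≤ R' := (closure_le _).mpr (by
      rintro u (rfl | rfl)
      · exact haR
      · exact z.2)
    have hS1 : (S : Subgroup G) ≠ ⊥ := fun e => by
      obtain ⟨x, s', t', _, _, _, hπ⟩ := Finset.card_eq_three.mp hG.three
      have hc : Nat.card (S : Subgroup G) = 1 := by rw [e, Subgroup.card_bot]
      have hab' : IsMulCommutative (S : Subgroup G) := hG.sylow_two_comm S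
      rw [e] at hc
      have h2 : ¬ 2 ∣ Nat.card G := fun h => S.ne_bot_of_dvd_card h e
      obtain ⟨l, hl, hl2, hld, -, u, -, hu⟩ := hG.exists_real
      exact h2 (hu ▸ orderOf_dvd_natCard u)
    refine hS1 (le_bot_iff.mp (Coprime.le_of_pair hr.out ?_ (hcl.trans (map_subtype_le _)) hab
      (hpow a haR) (hpow _ z.2) hz1' haz fun u hu hu1 => (hfix u (hG.orderOf_eq_of_mem hR' (hcl hu) hu1)).le))
    obtain ⟨k, hk⟩ := S.2.exists_card_eq
    rw [hk]
    exact ((Nat.coprime_primes hr.out Nat.prime_two).mpr hr2).pow_right k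

end IsPrimeElementGroup

end Cfsg.Agent.Lib.PrimeElements
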