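import Mathlib
import Cfsg.Agent.Lib.PrimeElements.Counting
import Cfsg.Agent.Lib.PrimeElements.Arith
import Cfsg.Agent.Lib.SL2.SmallId

/-!
A non-solvable group with four automorphism orbits is `A₅`.
-/

set_option autoImplicit false

namespace Cfsg.Agent.Lib.PrimeElements

open Subgroup

universe u

variable {G : Type u} [Group G] [Finite G]

namespace IsPrimeElementGroup

variable (hG : IsPrimeElementGroup G)
include hG

/-- The order `504` is impossible. -/
theorem false_of_504 [Fact (Nat.Prime 2)] (S : Sylow 2 G) (hcard : Nat.card G = 504)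
    (hS : Nat.card (S : Subgroup G) = 8) (hn : Nat.card (Sylow 2 G) = 9) : False := by
  classical
  haveI : Fact (Nat.Prime 3) := ⟨Nat.prime_three⟩
  haveI : Fact (Nat.Prime 7) := ⟨by norm_num⟩
  have hπ : (Nat.card G).primeFactors = {2, 3, 7} := by
    rw [hcard, show (504 : ℕ) = 2 ^ 3 * (3 ^ 2 * 7) by norm_num,
      Nat.primeFactors_mul (by norm_num) (by norm_num),
      Nat.primeFactors_mul (by norm_num) (by norm_num),
      Nat.primeFactors_prime_pow (by norm_num) Nat.prime_two,
      Nat.primeFactors_prime_pow (by norm_num) Nat.prime_three,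
      (by norm_num : Nat.Prime 7).primeFactors]
    rfl
  -- the number of elements of order three
  obtain ⟨T⟩ : Nonempty (Sylow 3 G) := inferInstance
  obtain ⟨U⟩ : Nonempty (Sylow 7 G) := inferInstance
  have hT : Nat.card (T : Subgroup G) = 9 := by
    rw [T.card_eq_multiplicity, hcard, show (504 : ℕ) = 3 ^ 2 * 56 by norm_num,
      Nat.factorization_mul (by norm_num) (by norm_num), Finsupp.add_apply,
      Nat.Prime.factorization_pow Nat.prime_three, Finsupp.single_eq_same,
      Nat.factorization_eq_zero_of_not_dvd (by norm_num : ¬ 3 ∣ 56)]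
    norm_num
  have hU : Nat.card (U : Subgroup G) = 7 := by
    rw [U.card_eq_multiplicity, hcard, show (504 : ℕ) = 7 ^ 1 * 72 by norm_num,
      Nat.factorization_mul (by norm_num) (by norm_num), Finsupp.add_apply,
      Nat.Prime.factorization_pow (by norm_num), Finsupp.single_eq_same,
      Nat.factorization_eq_zero_of_not_dvd (by norm_num : ¬ 7 ∣ 72)]
    norm_num
  have hNS : ∀ a : Sylow 2 G, Nat.card (normalizer ((a : Subgroup G) : Set G)) = 56 := fun a => by
    have := card_eq_numSylow_mul a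
    rw [hcard, hn] at this
    omega
  have hsum := hG.sum_numOrder (by norm_num : 2 ≠ 3) (by norm_num) (by norm_num) hπ
  have hI : numOrder G 2 + 9 = 9 * 8 := by
    have := hG.numOrder_eq S (hG.sylow_two_comm S)
    rw [hn, hS] at this
    exact this
  have h7 : numOrder G 7 + Nat.card (Sylow 7 G) ≤ Nat.card (Sylow 7 G) * 7 := by
    refine (hG.numOrder_le U).trans (Nat.mul_le_mul_left _ ?_)
    exact (Subgroup.card_le_card_group _).trans hU.le
  -- Sylow `7`-subgroups have normalizer at least twice as large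
  have hn7 : Nat.card (Sylow 7 G) ≤ 36 := by
    have h1 := card_eq_numSylow_mul U
    have hab : IsMulCommutative (U : Subgroup G) := by
      haveI : IsCyclic (U : Subgroup G) := isCyclic_of_prime_card hU
      exact ⟨⟨fun a b => (IsCyclic.commGroup (α := (U : Subgroup G))).mul_comm a b⟩⟩
    have h2 : Nat.card (normalizer ((U : Subgroup G) : Set G)) ≠ 7 := fun h =>
      hG.normalizer_ne hab (by rw [hcard]; norm_num)
        (Subgroup.eq_of_le_of_card_ge le_normalizer (by rw [h, hU])).symm
    obtain ⟨c, hc⟩ := Subgroup.card_dvd_of_le (le_normalizer (H := (U : Subgroup G)))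
    rw [hU] at hc
    rw [hc, hcard] at h1
    have hc2 : 2 ≤ c := by
      rcases c with _ | _ | c
      · omega
      · exact absurd (by omega) h2
      · omega
    nlinarith
  have hE3 : 224 ≤ numOrder G 3 := by omega
  -- elements of order `3` are determined by a three-cycle
  have hfree : ∀ x : G, orderOf x = 3 → ∀ a : Sylow 2 G, x • a ≠ a := by
    intro x hx a h
    have h1 : x ∈ normalizer ((a : Subgroup G) : Set G) := Sylow.smul_eq_iff_mem_normalizer.mp h
    have := Subgroup.orderOf_dvd_natCard _ h1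
    rw [hx, hNS a] at this
    norm_num at this
  have hthree : ∀ g : G, ∀ a b c : Sylow 2 G, a ≠ b → a ≠ c → b ≠ c →
      g • a = a → g • b = b → g • c = c → g = 1 := by
    intro g a b c hab hac hbc ha hb hc
    by_contra hg
    have hga : g ∈ normalizer ((a : Subgroup G) : Set G) := Sylow.smul_eq_iff_mem_normalizer.mp ha
    have hgd := Subgroup.orderOf_dvd_natCard _ hga
    rw [hNS a, show (56 : ℕ) = 2 ^ 3 * 7 by norm_num] at hgd
    have hgp := hG.prime_order g hg
    -- an involution fixes only one Sylow subgroup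
    have hinv : ∀ s : G, orderOf s = 2 → ∀ d : Sylow 2 G,
        s ∈ normalizer ((d : Subgroup G) : Set G) → centralizer ({s} : Set G) = (d : Subgroup G) := by
      intro s hs d hsd
      refine hG.centralizer_eq (hG.sylow_two_comm d) ?_ fun e => by
        rw [e, orderOf_one] at hs; norm_num at hs
      have hp : IsPGroup 2 (zpowers s) := IsPGroup.of_card (n := 1) (by rw [Nat.card_zpowers, hs, pow_one])
      have hsup := IsPGroup.to_sup_of_normal_left' d.2 hp (zpowers_le.mpr hsd)
      exact d.3 hsup le_sup_left ▸ mem_sup_right (mem_zpowers s)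
    rcases (hgp.dvd_mul.mp hgd) with h | h
    · have hg2 : orderOf g = 2 := (Nat.prime_dvd_prime_iff_eq hgp Nat.prime_two).mp (hgp.dvd_of_dvd_pow h)
      refine hab (Sylow.ext ?_)
      rw [← hinv g hg2 a hga, hinv g hg2 b (Sylow.smul_eq_iff_mem_normalizer.mp hb)]
    · have hg7 : orderOf g = 7 := (Nat.prime_dvd_prime_iff_eq hgp (by norm_num)).mp h
      let f : ↥(a : Subgroup G) → {d : Sylow 2 G // d ≠ a} := fun s => ⟨(s : G) • b, fun e => by
        have h1 : (s : G)⁻¹ • a = a :=
          Sylow.smul_eq_iff_mem_normalizer.mpr (le_normalizer (inv_mem s.2))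
        have h2 : b = (s : G)⁻¹ • a := by
          conv_lhs => rw [← inv_smul_smul (s : G) b, e]
        exact hab (h2.trans h1).symm⟩
      have hfi : Function.Injective f := by
        intro s t h
        by_contra hne
        have h1 : ((s : G)⁻¹ * t) • b = b := by
          rw [mul_smul, ← show (s : G) • b = (t : G) • b from congrArg Subtype.val h, inv_smul_smul]
        have h2 : (s : G)⁻¹ * t ∈ (a : Subgroup G) := mul_mem (inv_mem s.2) t.2
        have h3 : (s : G)⁻¹ * t ≠ 1 := fun e => hne (Subtype.ext (inv_mul_eq_one.mp e))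
        have h4 := hG.orderOf_eq_of_mem a.2 h2 h3
        refine hab (Sylow.ext ?_)
        rw [← hinv _ h4 a (le_normalizer h2), hinv _ h4 b (Sylow.smul_eq_iff_mem_normalizer.mp h1)]
      have hfs : Function.Surjective f := by
        refine ((Nat.bijective_iff_injective_and_card f).mpr ⟨hfi, ?_⟩).2
        haveI := Fintype.ofFinite (Sylow 2 G)
        rw [Nat.card_eq_fintype_card (α := {d : Sylow 2 G // d ≠ a}), Fintype.card_subtype_compl,
          Fintype.card_subtype_eq, ← Nat.card_eq_fintype_card, hn, a.card_eq_multiplicity,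
          ← S.card_eq_multiplicity, hS]
      obtain ⟨s, hs⟩ := hfs ⟨c, hac.symm⟩
      have hs' : (s : G) • b = c := congrArg Subtype.val hs
      have hconj : g * s * g⁻¹ ∈ (a : Subgroup G) := (mem_normalizer_iff.mp hga s).mp s.2
      have heq : f ⟨g * s * g⁻¹, hconj⟩ = f s := by
        refine Subtype.ext ?_
        show (g * (s : G) * g⁻¹) • b = (s : G) • b
        rw [mul_smul, mul_smul, show g⁻¹ • b = b by rw [inv_smul_eq_iff, hb], hs', hc]
      have hcomm : g * s = s * g := mul_inv_eq_iff_eq_mul.mp (congrArg Subtype.val (hfi heq))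
      by_cases hs1 : (s : G) = 1
      · rw [hs1, one_smul] at hs'
        exact hbc hs'
      · have hs2 := hG.orderOf_eq_of_mem a.2 s.2 hs1
        obtain ⟨k, hk⟩ := IsPGroup.iff_orderOf.mp (hG.centralizer_isPGroup hs2)
          ⟨g, mem_centralizer_singleton_iff.mpr hcomm⟩
        rw [Subgroup.orderOf_mk, hg7] at hk
        have : 7 ∣ 2 := (by norm_num : Nat.Prime 7).dvd_of_dvd_pow (dvd_of_eq hk)
        norm_num at this
  let F : {x : G | orderOf x = 3} × Sylow 2 G → Sylow 2 G × Sylow 2 G × Sylow 2 G :=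
    fun v => (v.2, (v.1 : G) • v.2, (v.1 : G) • (v.1 : G) • v.2)
  have hF : Function.Injective F := by
    rintro ⟨⟨x, hx⟩, a⟩ ⟨⟨y, hy⟩, b⟩ h
    simp only [F, Prod.mk.injEq] at h
    obtain ⟨rfl, h2, h3⟩ := h
    have hx' : orderOf x = 3 := hx
    have hy' : orderOf y = 3 := hy
    have hx3 : x • x • x • a = a := by
      rw [← mul_smul, ← mul_smul, show x * x * x = x ^ orderOf x by rw [hx', pow_succ, pow_two], pow_orderOf_eq_one,
        one_smul]
    have hy3 : y • y • y • a = a := by
      rw [← mul_smul, ← mul_smul, show y * y * y = y ^ orderOf y by rw [hy', pow_succ, pow_two], pow_orderOf_eq_one,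
        one_smul]
    have h1 : y⁻¹ * x = 1 := by
      refine hthree _ a (x • a) (x • x • a) (fun e => hfree x hx' a e.symm) ?_ ?_ ?_ ?_ ?_
      · intro e
        exact hfree x hx' a (((congrArg (x • ·) e).trans hx3))
      · exact fun e => hfree x hx' (x • a) e.symm
      · rw [mul_smul, inv_smul_eq_iff]; exact h2
      · rw [mul_smul, inv_smul_eq_iff]; rw [h3, h2]
      · rw [mul_smul, inv_smul_eq_iff, hx3, h3, hy3]
    rw [inv_mul_eq_one] at h1
    subst h1
    rfl
  have hle := Nat.card_le_card_of_injective F hF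
  rw [Nat.card_prod, Nat.card_prod, Nat.card_prod, hn] at hle
  have : numOrder G 3 * 9 ≤ 729 := hle
  omega

/-- The order is `60`, with an element of order `5` that is self-centralising. -/
theorem card_eq_sixty_of_numbers [Fact (Nat.Prime 2)] (S : Sylow 2 G) {p q i j : ℕ} [Fact p.Prime]
    [hq : Fact q.Prime] (Q : Sylow q G) (hq2 : q ≠ 2)
    (hP : Nat.card G = Nat.card (S : Subgroup G) * (p ^ i) * Nat.card (Q : Subgroup G))
    (hi : p ^ i = p) (hQj : Nat.card (Q : Subgroup G) = q ^ j) (hQ : Nat.card (Q : Subgroup G) = p + 2)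
    (hS : Nat.card (S : Subgroup G) = p + 1)
    (hn : Nat.card (Sylow 2 G) * p = p * Nat.card (Q : Subgroup G)) :
    Nat.card G = 60 ∧ ∃ y : G, orderOf y = 5 ∧ Nat.card (centralizer ({y} : Set G)) = 5 := by
  rw [hi] at hP
  obtain ⟨n, hn2⟩ := S.2.exists_card_eq
  have hp : p.Prime := Fact.out
  rw [mul_comm p] at hn
  have hn' : Nat.card (Sylow 2 G) = p + 2 := by rw [← hQ]; exact Nat.eq_of_mul_eq_mul_right hp.pos hn
  by_cases hp3 : p = 3
  · subst hp3
    have hq5 : q = 5 := by
      have h5 : Nat.Prime 5 := by norm_num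
      rw [hQ] at hQj
      exact ((Nat.prime_dvd_prime_iff_eq h5 hq.out).mp
        (h5.dvd_of_dvd_pow (dvd_of_eq hQj))).symm
    subst hq5
    rw [hS, hQ] at hP
    refine ⟨hP, ?_⟩
    obtain ⟨y, hy⟩ := exists_prime_orderOf_dvd_card' (G := G) 5 (by rw [hP]; norm_num)
    exact ⟨y, hy, (hG.card_centralizer hy Q).trans hQ⟩
  · exfalso
    have hS2 : 2 ^ n = p + 1 := hn2 ▸ hS
    -- `p + 2` is divisible by three
    have hp2 : p ≠ 2 := by
      rintro rfl
      rw [show 2 + 1 = 3 from rfl] at hS2
      rcases n with _ | n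
      · norm_num at hS2
      · rw [pow_succ] at hS2; omega
    have hmod : (p + 2) % 3 = 0 := by
      have h1 : p % 3 ≠ 0 := fun h => hp3
        ((Nat.prime_dvd_prime_iff_eq Nat.prime_three hp).mp (Nat.dvd_of_mod_eq_zero h)).symm
      have h2 : 2 ^ n % 3 ≠ 0 := fun h => by
        have := Nat.prime_three.dvd_of_dvd_pow (Nat.dvd_of_mod_eq_zero h)
        norm_num at this
      omega
    have hq3 : q = 3 := by
      have h3 : 3 ∣ q ^ j := by rw [← hQj, hQ]; exact Nat.dvd_of_mod_eq_zero hmod
      exact ((Nat.prime_dvd_prime_iff_eq Nat.prime_three hq.out).mp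
        (Nat.prime_three.dvd_of_dvd_pow h3)).symm
    subst hq3
    have h23 : 2 ^ n + 1 = 3 ^ j := by rw [← hQj, hQ, hS2]
    rcases eq_one_or_three_of_pow_eq h23 with rfl | rfl
    · have := hp.two_le
      omega
    · have hp7 : p = 7 := by omega
      subst hp7
      rw [hS, hQ] at hP
      exact hG.false_of_504 S hP (by rw [hS]) (by rw [hn'])

/-- In the case of two real odd primes the Sylow `2`-normalizer index is not their product. -/
theorem not_both {p q : ℕ} [hp : Fact p.Prime] [hq : Fact q.Prime] [Fact (Nat.Prime 2)]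
    (S : Sylow 2 G) (hlt : p < q) (hp2 : p ≠ 2)
    (hN : Nat.card (normalizer ((S : Subgroup G) : Set G)) = Nat.card (S : Subgroup G) * (p * q))
    (hreal : ∃ (Q : Sylow q G) (t : G), t ∈ normalizer ((Q : Subgroup G) : Set G) ∧ orderOf t = 2) :
    False := by
  have hq2 : q ≠ 2 := by have := hp.out.two_le; omega
  set N := normalizer ((S : Subgroup G) : Set G)
  have hqN : q ∣ Nat.card N := hN ▸ dvd_mul_of_dvd_right (dvd_mul_left q p) _
  obtain ⟨hqS, hqsq⟩ := hG.normalizer_two_index S hq2 hqN
  obtain ⟨R⟩ : Nonempty (Sylow q N) := inferInstance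
  have hRcard : Nat.card (R : Subgroup N) = q := by
    obtain ⟨k, hk⟩ := R.2.exists_card_eq
    have h1 : q ^ 1 ∣ Nat.card (R : Subgroup N) := R.pow_dvd_card_of_pow_dvd_card (by rwa [pow_one])
    rcases k with _ | _ | k
    · rw [hk, pow_zero, pow_one, Nat.dvd_one] at h1
      exact absurd h1 hq.out.ne_one
    · rw [hk, zero_add, pow_one]
    · exact absurd (((pow_dvd_pow q (by omega : 2 ≤ k + 1 + 1)).trans (hk ▸ dvd_rfl)).trans
        (Subgroup.card_subgroup_dvd_card (R : Subgroup N))) hqsq
  set R' := (R : Subgroup N).map N.subtype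
  set M := normalizer ((R : Subgroup N) : Set N)
  have hcount := card_eq_numSylow_mul R
  have hmod : Nat.card (Sylow q N) ≡ 1 [MOD q] := card_sylow_modEq_one q N
  obtain ⟨y, hy, hy1⟩ := (Subgroup.bot_or_exists_ne_one R').resolve_left (fun e => by
    have := Subgroup.card_map_of_injective (K := (R : Subgroup N)) N.subtype_injective
    rw [show (R : Subgroup N).map N.subtype = R' from rfl, e, Subgroup.card_bot, hRcard] at this
    exact hq.out.one_lt.ne this)
  have hR'p : IsPGroup q R' := R.2.map _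
  have hyo : orderOf y = q := hG.orderOf_eq_of_mem hR'p hy hy1
  have hRy : R' = zpowers y := (Subgroup.eq_of_le_of_card_ge (zpowers_le.mpr hy) (by
    rw [Nat.card_zpowers, hyo, Subgroup.card_map_of_injective N.subtype_injective, hRcard])).symm
  -- the normalizer of `R` in `N` has odd order
  have h2M : ¬ 2 ∣ Nat.card M := by
    intro h
    obtain ⟨⟨⟨u, huN⟩, huM⟩, hu⟩ := exists_prime_orderOf_dvd_card' (G := M) 2 h
    rw [Subgroup.orderOf_mk, Subgroup.orderOf_mk] at hu
    have huS : u ∈ (S : Subgroup G) := by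
      have hp : IsPGroup 2 (zpowers u) := IsPGroup.of_card (n := 1) (by rw [Nat.card_zpowers, hu, pow_one])
      exact S.3 (IsPGroup.to_sup_of_normal_left' S.2 hp (zpowers_le.mpr huN)) le_sup_left ▸
        mem_sup_right (mem_zpowers u)
    obtain ⟨⟨y', hy'N⟩, hy', rfl⟩ := hy
    have h1 : u * y' * u⁻¹ ∈ R' := ⟨_, (mem_normalizer_iff.mp huM ⟨y', hy'N⟩).mp hy', rfl⟩
    have h2 : u * y' * u⁻¹ * y'⁻¹ ∈ R' := mul_mem h1 (inv_mem ⟨_, hy', rfl⟩)
    have h3 : u * y' * u⁻¹ * y'⁻¹ ∈ (S : Subgroup G) := by
      have := mul_mem huS ((mem_normalizer_iff.mp hy'N u⁻¹).mp (inv_mem huS))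
      simpa [mul_assoc] using this
    have h4 : u * y' * u⁻¹ * y'⁻¹ = 1 :=
      mem_bot.mp ((IsPGroup.disjoint_of_ne 2 q (Ne.symm hq2) _ _ S.2 hR'p).le_bot ⟨h3, h2⟩)
    rw [mul_inv_eq_one, mul_inv_eq_iff_eq_mul] at h4
    obtain ⟨k, hk⟩ := IsPGroup.iff_orderOf.mp (hG.centralizer_isPGroup hyo)
      ⟨u, mem_centralizer_singleton_iff.mpr h4⟩
    rw [Subgroup.orderOf_mk, hu] at hk
    exact hq2 ((Nat.prime_eq_prime_of_dvd_pow Nat.prime_two hq.out (dvd_of_eq hk))).symm
  obtain ⟨n, hn⟩ := S.2.exists_card_eq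
  have hMd : Nat.card M ∣ p * q := by
    have h := Subgroup.card_subgroup_dvd_card M
    rw [hN, hn] at h
    exact (((Nat.Prime.coprime_iff_not_dvd Nat.prime_two).mpr h2M).symm.pow_right n).dvd_of_dvd_mul_left h
  by_cases hpM : p ∣ Nat.card M
  · obtain ⟨⟨⟨x, hxN⟩, hxM⟩, hx⟩ := exists_prime_orderOf_dvd_card' (G := M) p hpM
    rw [Subgroup.orderOf_mk, Subgroup.orderOf_mk] at hx
    obtain ⟨Q, t, ht, ht2⟩ := hreal
    have hd : q ∣ Nat.card G := hyo ▸ orderOf_dvd_natCard y
    obtain ⟨Q', hQ'⟩ := hG.exists_sylow_eq_centralizer hyo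
    obtain ⟨g, rfl⟩ := MulAction.exists_smul_eq G Q Q'
    have ht' : g * t * g⁻¹ ∈ normalizer (((g • Q : Sylow q G) : Subgroup G) : Set G) := by
      refine Sylow.smul_eq_iff_mem_normalizer.mp ?_
      rw [← mul_smul, inv_mul_cancel_right, mul_smul, Sylow.smul_eq_iff_mem_normalizer.mpr ht]
    have ht2' : orderOf (g * t * g⁻¹) = 2 :=
      (orderOf_injective (MulAut.conj g).toMonoidHom (MulAut.conj g).injective t).trans ht2
    obtain ⟨hab, -, hinvol, -⟩ := hG.real_sylow hq2 hd (g • Q) ht' ht2'
    obtain ⟨⟨y', hy'N⟩, hy', rfl⟩ := hy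
    have h1 : x * y' * x⁻¹ ∈ R' := ⟨_, (mem_normalizer_iff.mp hxM ⟨y', hy'N⟩).mp hy', rfl⟩
    have hyQ : y' ∈ ((g • Q : Sylow q G) : Subgroup G) := hQ' ▸ mem_centralizer_singleton_iff.mpr rfl
    have hR'Q : R' ≤ ((g • Q : Sylow q G) : Subgroup G) := hRy ▸ zpowers_le.mpr hyQ
    have hy1' : x * y' * x⁻¹ ≠ 1 := fun e => hy1 (conj_eq_one_iff.mp e)
    have hC := hG.centralizer_eq hab (hR'Q h1) hy1'
    have hxQ : x ∈ normalizer (((g • Q : Sylow q G) : Subgroup G) : Set G) := by
      rw [mem_normalizer_iff]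
      intro z
      have e : ∀ z, z ∈ centralizer ({y'} : Set G) ↔ x * z * x⁻¹ ∈ centralizer ({x * y' * x⁻¹} : Set G) := by
        intro z
        rw [mem_centralizer_singleton_iff, mem_centralizer_singleton_iff]
        refine ⟨fun h => ?_, fun h => ?_⟩
        · rw [show x * z * x⁻¹ * (x * y' * x⁻¹) = x * (z * y') * x⁻¹ by group, h]; group
        · have h' : x * (z * y') * x⁻¹ = x * (y' * z) * x⁻¹ := by
            calc x * (z * y') * x⁻¹ = x * z * x⁻¹ * (x * y' * x⁻¹) := by group
              _ = _ := h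
              _ = x * (y' * z) * x⁻¹ := by group
          exact mul_left_cancel (mul_right_cancel h')
      rw [hC] at e
      rw [hQ'] at e ⊢
      exact e z
    have hxnot : x ∉ ((g • Q : Sylow q G) : Subgroup G) := fun h => by
      have := hG.orderOf_eq_of_mem (g • Q).2 h (fun e => by
        rw [e, orderOf_one] at hx; exact hp.out.ne_one hx.symm)
      omega
    have := hinvol x hxQ hxnot
    omega
  · have hMq : Nat.card M = q := by
      have h1 : Nat.card M ∣ q :=
        ((hp.out.coprime_iff_not_dvd.mpr hpM).symm).dvd_of_dvd_mul_left hMd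
      have h2 : q ∣ Nat.card M := hRcard ▸ Subgroup.card_dvd_of_le le_normalizer
      exact Nat.dvd_antisymm h1 h2
    rw [hN, hMq, ← mul_assoc] at hcount
    have hcnt : Nat.card (Sylow q N) = Nat.card (S : Subgroup G) * p :=
      (Nat.eq_of_mul_eq_mul_right hq.out.pos hcount).symm
    rw [hcnt] at hmod
    have hS1 : Nat.card (S : Subgroup G) ≡ 1 [MOD q] := ((Nat.modEq_iff_dvd' Nat.card_pos).mpr hqS).symm
    have hp1 : p ≡ 1 [MOD q] := by
      have := (hS1.mul_right p).symm.trans hmod
      rwa [one_mul] at this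
    have h3 : q ∣ p - 1 := (Nat.modEq_iff_dvd' hp.out.one_le).mp hp1.symm
    have h4 : p - 1 = 0 := Nat.eq_zero_of_dvd_of_lt h3 (by omega)
    have := hp.out.two_le
    omega

theorem card_eq_sixty :
    Nat.card G = 60 ∧ ∃ y : G, orderOf y = 5 ∧ Nat.card (centralizer ({y} : Set G)) = 5 := by
  classical
  haveI h2 : Fact (Nat.Prime 2) := ⟨Nat.prime_two⟩
  obtain ⟨p, hp, hp2, hpd, P, t, ht, ht2⟩ := hG.exists_real
  haveI := Fact.mk hp
  have h2mem : 2 ∈ (Nat.card G).primeFactors :=
    Nat.mem_primeFactors.mpr ⟨Nat.prime_two, ht2 ▸ orderOf_dvd_natCard t, Nat.card_pos.ne'⟩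
  have hpmem : p ∈ ((Nat.card G).primeFactors).erase 2 :=
    Finset.mem_erase.mpr ⟨hp2, Nat.mem_primeFactors.mpr ⟨hp, hpd, Nat.card_pos.ne'⟩⟩
  obtain ⟨q, hq'⟩ : ∃ q, ((Nat.card G).primeFactors.erase 2).erase p = {q} := by
    rw [← Finset.card_eq_one, Finset.card_erase_of_mem hpmem, Finset.card_erase_of_mem h2mem, hG.three]
  have hqmem : q ∈ ((Nat.card G).primeFactors.erase 2).erase p := by rw [hq']; simp
  obtain ⟨hqp, hqm⟩ := Finset.mem_erase.mp hqmem
  obtain ⟨hq2, hqm'⟩ := Finset.mem_erase.mp hqm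
  obtain ⟨hq, hqd, -⟩ := Nat.mem_primeFactors.mp hqm'
  haveI := Fact.mk hq
  have hπ : (Nat.card G).primeFactors = {2, p, q} := by
    rw [show ({2, p, q} : Finset ℕ) = insert 2 (insert p {q}) from rfl, ← hq', Finset.insert_erase hpmem,
      Finset.insert_erase h2mem]
  obtain ⟨S⟩ : Nonempty (Sylow 2 G) := inferInstance
  obtain ⟨Q⟩ : Nonempty (Sylow q G) := inferInstance
  have hcard := card_eq_prod_sylow hp2.symm hq2.symm (Ne.symm hqp) hπ S P Q
  obtain ⟨habP, -, -, hNP⟩ := hG.real_sylow hp2 hpd P ht ht2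
  -- the normalizer of `S`
  set N := normalizer ((S : Subgroup G) : Set G) with hN
  obtain ⟨a, ha⟩ := Subgroup.card_dvd_of_le (le_normalizer (H := (S : Subgroup G)))
  have ha' : Nat.card N = Nat.card (S : Subgroup G) * a := ha
  have hnS := card_eq_numSylow_mul S
  rw [ha'] at hnS
  have hnSa : Nat.card (Sylow 2 G) * a = Nat.card (P : Subgroup G) * Nat.card (Q : Subgroup G) := by
    refine Nat.eq_of_mul_eq_mul_left (n := Nat.card (S : Subgroup G)) Nat.card_pos ?_
    rw [← mul_assoc (Nat.card (S : Subgroup G)) (Nat.card (P : Subgroup G)), ← hcard, hnS]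
    ring
  obtain ⟨i, hPi⟩ := P.2.exists_card_eq
  obtain ⟨j, hQj⟩ := Q.2.exists_card_eq
  have ha_odd : ¬ 2 ∣ a := by
    intro h
    have h1 : 2 ∣ p ^ i * q ^ j := hPi ▸ hQj ▸ hnSa ▸ h.mul_left _
    rcases Nat.prime_two.dvd_mul.mp h1 with h | h
    · exact hp2 ((Nat.prime_eq_prime_of_dvd_pow Nat.prime_two hp h)).symm
    · exact hq2 ((Nat.prime_eq_prime_of_dvd_pow Nat.prime_two hq h)).symm
  have ha1 : a ≠ 1 := fun h => hG.normalizer_ne (hG.sylow_two_comm S) (ht2 ▸ orderOf_dvd_natCard t)
    (Subgroup.eq_of_le_of_card_ge le_normalizer (by rw [ha, h, mul_one])).symm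
  have ha0 : a ≠ 0 := fun h => ha_odd (h ▸ dvd_zero 2)
  have haprime : ∀ r, r.Prime → r ∣ a → (r = p ∨ r = q) ∧ r ∣ Nat.card (S : Subgroup G) - 1 ∧ ¬ r ^ 2 ∣ a := by
    intro r hr hra
    haveI := Fact.mk hr
    have hr2 : r ≠ 2 := fun h => ha_odd (h ▸ hra)
    have hrN : r ∣ Nat.card N := ha' ▸ hra.mul_left _
    obtain ⟨h1, h2⟩ := hG.normalizer_two_index S hr2 hrN
    refine ⟨?_, h1, fun h => h2 (show r ^ 2 ∣ Nat.card N from ha' ▸ h.mul_left _)⟩
    rcases mem_or_eq_of_dvd hG hπ hr (hrN.trans (Subgroup.card_subgroup_dvd_card N)) with h | h | h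
    · exact absurd h hr2
    · exact Or.inl h
    · exact Or.inr h
  have hcases : a = p ∨ a = q ∨ a = p * q := by
    obtain ⟨u, v, huv⟩ := exists_pow_mul_of_primes a ha0 fun r hr hra => (haprime r hr hra).1
    have hu : u ≤ 1 := by
      by_contra h
      push Not at h
      exact (haprime p hp (huv ▸ dvd_mul_of_dvd_left (dvd_pow_self p (by omega)) _)).2.2
        (huv ▸ dvd_mul_of_dvd_left (pow_dvd_pow p h) _)
    have hv : v ≤ 1 := by
      by_contra h
      push Not at h
      exact (haprime q hq (huv ▸ dvd_mul_of_dvd_right (dvd_pow_self q (by omega)) _)).2.2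
        (huv ▸ dvd_mul_of_dvd_right (pow_dvd_pow q h) _)
    interval_cases u <;> interval_cases v <;> simp at huv
    · exact absurd huv ha1
    · exact Or.inr (Or.inl huv)
    · exact Or.inl huv
    · exact Or.inr (Or.inr huv)
  have haS : a ∣ Nat.card (S : Subgroup G) - 1 := by
    rcases hcases with h | h | h
    · exact h ▸ (haprime p hp (h ▸ dvd_rfl)).2.1
    · exact h ▸ (haprime q hq (h ▸ dvd_rfl)).2.1
    · exact h ▸ ((Nat.coprime_primes hp hq).mpr (Ne.symm hqp)).mul_dvd_of_dvd_of_dvd
        (haprime p hp (h ▸ dvd_mul_right p q)).2.1 (haprime q hq (h ▸ dvd_mul_left q p)).2.1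
  -- counting
  have hI := hG.numOrder_eq S (hG.sylow_two_comm S)
  have hEp := hG.numOrder_eq P habP
  have hnP := card_eq_numSylow_mul P
  rw [hNP] at hnP
  have hnP2 : 2 * Nat.card (Sylow p G) = Nat.card (S : Subgroup G) * Nat.card (Q : Subgroup G) := by
    refine Nat.eq_of_mul_eq_mul_left (n := Nat.card (P : Subgroup G)) Nat.card_pos ?_
    calc Nat.card (P : Subgroup G) * (2 * Nat.card (Sylow p G))
        = Nat.card (Sylow p G) * (2 * Nat.card (P : Subgroup G)) := by ring
      _ = Nat.card G := hnP.symm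
      _ = _ := by rw [hcard]; ring
  have hS4 : 4 ≤ Nat.card (S : Subgroup G) := by
    have h1 : 2 ≤ Nat.card (S : Subgroup G) :=
      (Finite.one_lt_card_iff_nontrivial.mpr ((nontrivial_iff_ne_bot _).mpr
        (S.ne_bot_of_dvd_card (ht2 ▸ orderOf_dvd_natCard t))))
    have h3 : 3 ≤ a := by
      rcases a with _ | _ | _ | a
      · exact absurd rfl ha0
      · exact absurd rfl ha1
      · exact absurd (dvd_refl 2) ha_odd
      · omega
    have := Nat.le_of_dvd (by omega) haS
    omega
  by_cases hreal : ∃ (Q : Sylow q G) (t : G), t ∈ normalizer ((Q : Subgroup G) : Set G) ∧ orderOf t = 2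
  · -- both odd primes are real
    obtain ⟨Q₁, t', ht', ht2'⟩ := hreal
    obtain ⟨habQ, -, -, hNQ⟩ := hG.real_sylow hq2 hqd Q₁ ht' ht2'
    have hQcard : Nat.card (Q₁ : Subgroup G) = Nat.card (Q : Subgroup G) := by
      rw [Q₁.card_eq_multiplicity, Q.card_eq_multiplicity]
    rcases hcases with hap | haq | hapq
    rotate_left 2
    · exfalso
      rw [hapq] at ha'
      rcases lt_or_gt_of_ne (Ne.symm hqp) with h | h
      · exact hG.not_both S h hp2 ha' ⟨Q₁, t', ht', ht2'⟩
      · exact hG.not_both S h hq2 (by rw [ha', mul_comm p q]) ⟨P, t, ht, ht2⟩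
    all_goals
      have hEq := hG.numOrder_eq Q₁ habQ
      rw [hQcard] at hEq
      have hnQ := card_eq_numSylow_mul Q₁
      rw [hNQ, hQcard] at hnQ
      have hnQ2 : 2 * Nat.card (Sylow q G) = Nat.card (S : Subgroup G) * Nat.card (P : Subgroup G) := by
        refine Nat.eq_of_mul_eq_mul_left (n := Nat.card (Q : Subgroup G)) Nat.card_pos ?_
        calc Nat.card (Q : Subgroup G) * (2 * Nat.card (Sylow q G))
            = Nat.card (Sylow q G) * (2 * Nat.card (Q : Subgroup G)) := by ring
          _ = Nat.card G := hnQ.symm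
          _ = _ := by rw [hcard]; ring
      have hsum := hG.sum_numOrder hp2.symm hq2.symm (Ne.symm hqp) hπ
      obtain ⟨m, hm⟩ := haS
      have hmain : ((a : ℤ) * m + 1) *
          ((Nat.card (P : Subgroup G) : ℤ) + Nat.card (Q : Subgroup G)) =
          2 * m * Nat.card (P : Subgroup G) * Nat.card (Q : Subgroup G) + 2 := by
        have hmz : (Nat.card (S : Subgroup G) : ℤ) = a * m + 1 := by
          have : Nat.card (S : Subgroup G) = a * m + 1 := by omega
          exact_mod_cast this
        zify at hI hEp hEq hnSa hnP2 hnQ2 hsum hcard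
        generalize (Nat.card (S : Subgroup G) : ℤ) = s at *
        generalize (Nat.card (P : Subgroup G) : ℤ) = x at *
        generalize (Nat.card (Q : Subgroup G) : ℤ) = l at *
        generalize (Nat.card (Sylow 2 G) : ℤ) = n₂ at *
        generalize (Nat.card (Sylow p G) : ℤ) = nₚ at *
        generalize (Nat.card (Sylow q G) : ℤ) = nq at *
        generalize (numOrder G 2 : ℤ) = e₂ at *
        generalize (numOrder G p : ℤ) = eₚ at *
        generalize (numOrder G q : ℤ) = eq at *
        generalize (Nat.card G : ℤ) = g at *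
        have h0 : (a : ℤ) ≠ 0 := by exact_mod_cast ha0
        refine mul_left_cancel₀ h0 ?_
        subst hmz
        linear_combination (2 * (a : ℤ)) * hsum - (2 * (a : ℤ)) * hcard + (2 * (a : ℤ)) * hI +
          (2 * (a : ℤ)) * hEp + (2 * (a : ℤ)) * hEq + (2 * ((a : ℤ) * m + 1) - 2) * hnSa +
          (a : ℤ) * (x - 1) * hnP2 + (a : ℤ) * (l - 1) * hnQ2
      have hmodd : Odd (m : ℤ) := by
        rw [Int.odd_coe_nat]
        by_contra h
        rw [Nat.not_odd_iff_even] at h
        obtain ⟨n, hn⟩ := S.2.exists_card_eq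
        obtain ⟨c, rfl⟩ := h
        rcases n with _ | n
        · omega
        · rw [hn, pow_succ] at hm hS4
          have : a * (c + c) = (a * c) * 2 := by ring
          omega
      have hm1 : (1 : ℤ) ≤ m := by
        rcases Nat.eq_zero_or_pos m with rfl | h
        · simp at hmodd
        · exact_mod_cast h
    · -- `a = p`
      subst hap
      have hQ1 : 1 < Nat.card (Q : Subgroup G) := Finite.one_lt_card_iff_nontrivial.mpr
        ((nontrivial_iff_ne_bot _).mpr (Q.ne_bot_of_dvd_card hqd))
      have hi1 : 1 ≤ i := by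
        rcases Nat.eq_zero_or_pos i with rfl | h
        · have : 1 < Nat.card (P : Subgroup G) := Finite.one_lt_card_iff_nontrivial.mpr
            ((nontrivial_iff_ne_bot _).mpr (P.ne_bot_of_dvd_card hpd))
          rw [hPi, pow_zero] at this; omega
        · exact h
      have hQodd : Odd (Nat.card (Q : Subgroup G)) := hQj ▸ (hq.odd_of_ne_two hq2).pow
      obtain ⟨e1, e2, e3⟩ := arith_both_real (p := (a : ℤ)) (i := i) (m := (m : ℤ))
        (S := (Nat.card (S : Subgroup G) : ℤ))
        (P := (Nat.card (P : Subgroup G) : ℤ)) (L := (Nat.card (Q : Subgroup G) : ℤ))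
        (by have := hp.two_le; omega) hm1 hmodd
        (by rw [Int.odd_coe_nat]; exact hp.odd_of_ne_two hp2) hi1 (by rw [hPi]; push_cast; rfl)
        (by obtain ⟨c, hc⟩ := hQodd; omega) (by rw [Int.odd_coe_nat]; exact hQodd)
        (by
          have : Nat.card (S : Subgroup G) = a * m + 1 := by omega
          rw [this]; push_cast; ring)
        (by
          have : Nat.card (S : Subgroup G) = a * m + 1 := by omega
          rw [this]; push_cast; exact hmain)
      refine hG.card_eq_sixty_of_numbers S (p := a) (i := i) (j := j) Q hq2 ?_ ?_ hQj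
        (by exact_mod_cast e2) (by exact_mod_cast e3) ?_
      · rw [hcard, hPi]
      · rw [← hPi]; exact_mod_cast e1
      · rw [hnSa, show Nat.card (P : Subgroup G) = a by exact_mod_cast e1]
    · -- `a = q`
      subst haq
      have hP1 : 1 < Nat.card (P : Subgroup G) := Finite.one_lt_card_iff_nontrivial.mpr
        ((nontrivial_iff_ne_bot _).mpr (P.ne_bot_of_dvd_card hpd))
      have hj1 : 1 ≤ j := by
        rcases Nat.eq_zero_or_pos j with rfl | h
        · have : 1 < Nat.card (Q : Subgroup G) := Finite.one_lt_card_iff_nontrivial.mpr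
            ((nontrivial_iff_ne_bot _).mpr (Q.ne_bot_of_dvd_card hqd))
          rw [hQj, pow_zero] at this; omega
        · exact h
      have hPodd : Odd (Nat.card (P : Subgroup G)) := hPi ▸ (hp.odd_of_ne_two hp2).pow
      obtain ⟨e1, e2, e3⟩ := arith_both_real (p := (a : ℤ)) (i := j) (m := (m : ℤ))
        (S := (Nat.card (S : Subgroup G) : ℤ))
        (P := (Nat.card (Q : Subgroup G) : ℤ)) (L := (Nat.card (P : Subgroup G) : ℤ))
        (by have := hq.two_le; omega) hm1 hmodd
        (by rw [Int.odd_coe_nat]; exact hq.odd_of_ne_two hq2) hj1 (by rw [hQj]; push_cast; rfl)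
        (by obtain ⟨c, hc⟩ := hPodd; omega) (by rw [Int.odd_coe_nat]; exact hPodd)
        (by
          have : Nat.card (S : Subgroup G) = a * m + 1 := by omega
          rw [this]; push_cast; ring)
        (by
          have : Nat.card (S : Subgroup G) = a * m + 1 := by omega
          rw [this]; push_cast; linear_combination hmain)
      refine hG.card_eq_sixty_of_numbers S (p := a) (i := j) (j := i) P hp2 ?_ ?_ hPi
        (by exact_mod_cast e2) (by exact_mod_cast e3) ?_
      · rw [hcard, hQj]; ring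
      · rw [← hQj]; exact_mod_cast e1
      · rw [hnSa, show Nat.card (Q : Subgroup G) = a by exact_mod_cast e1, mul_comm]
  · -- one real prime
    exfalso
    push Not at hreal
    have hsq := hG.numOrder_two_sq S hp2.symm hq2.symm (Ne.symm hqp) hπ (Nat.card (P : Subgroup G)) 0
      (hG.pairs_real hp2 hpd P ht ht2) (hG.pairs_zero hreal)
    rw [mul_zero, add_zero] at hsq
    have hP3 : 3 ≤ Nat.card (P : Subgroup G) := by
      have h1 : p ≤ Nat.card (P : Subgroup G) := Nat.le_of_dvd Nat.card_pos
        (by simpa using P.pow_dvd_card_of_pow_dvd_card (n := 1) (by simpa using hpd))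
      have := hp.two_le
      omega
    refine arith_one_real (S := (Nat.card (S : Subgroup G) : ℤ))
      (P := (Nat.card (P : Subgroup G) : ℤ)) (L := (Nat.card (Q : Subgroup G) : ℤ)) (a := (a : ℤ))
      (p := (p : ℤ)) (i := (Nat.card (S : Subgroup G) : ℤ) - 1) (Nat.prime_iff_prime_int.mp hp)
      (by exact_mod_cast hS4) (by exact_mod_cast hP3) (by exact_mod_cast Nat.card_pos)
      (by exact_mod_cast (by simpa using P.pow_dvd_card_of_pow_dvd_card (n := 1) (by simpa using hpd) :
        p ∣ Nat.card (P : Subgroup G)))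
      (by omega)
      (by
        have := Int.natCast_dvd_natCast.mpr haS
        rwa [Nat.cast_sub (by omega), Nat.cast_one] at this)
      ?_ rfl ?_
    · rcases hcases with h | h | h
      · exact Or.inl (Int.natCast_dvd_natCast.mpr (h ▸ dvd_rfl))
      · refine Or.inr ?_
        subst h
        exact_mod_cast (by simpa using Q.pow_dvd_card_of_pow_dvd_card (n := 1) (by simpa using hqd) :
          a ∣ Nat.card (Q : Subgroup G))
      · exact Or.inl (by exact_mod_cast h ▸ dvd_mul_right p q)
    · zify at hI hEp hnSa hnP2 hsq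
      generalize (Nat.card (S : Subgroup G) : ℤ) = s at *
      generalize hx : (Nat.card (P : Subgroup G) : ℤ) = x at *
      generalize hl : (Nat.card (Q : Subgroup G) : ℤ) = l at *
      generalize (Nat.card (Sylow 2 G) : ℤ) = n₂ at *
      generalize (Nat.card (Sylow p G) : ℤ) = nₚ at *
      generalize (numOrder G 2 : ℤ) = e₂ at *
      generalize (numOrder G p : ℤ) = eₚ at *
      have hxl : x * l ≠ 0 := by
        rw [← hx, ← hl]
        exact_mod_cast (Nat.mul_pos (Nat.card_pos (α := (P : Subgroup G))) (Nat.card_pos (α := (Q : Subgroup G)))).ne'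
      refine mul_left_cancel₀ hxl ?_
      obtain rfl : e₂ = n₂ * (s - 1) := by linear_combination hI
      obtain rfl : eₚ = nₚ * (x - 1) := by linear_combination hEp
      linear_combination (2 * (a : ℤ) ^ 2) * hsq + ((a : ℤ) ^ 2 * x * (x - 1)) * hnP2 -
        (2 * (s - 1) ^ 2 * (n₂ * a + x * l - a)) * hnSa

end IsPrimeElementGroup

/-- A non-solvable group with four automorphism orbits satisfies `IsPrimeElementGroup`. -/
theorem isPrimeElementGroup_of_four_orbits (hns : ¬ Group.IsSolvable G)
    (h4 : Nat.card (MulAction.orbitRel.Quotient (MulAut G) G) = 4) : IsPrimeElementGroup G := by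
  classical
  haveI := Fintype.ofFinite (MulAction.orbitRel.Quotient (MulAut G) G)
  let o : MulAction.orbitRel.Quotient (MulAut G) G → ℕ := Quotient.lift (fun x : G => orderOf x) (by
    rintro x y ⟨φ, rfl⟩
    exact MulEquiv.orderOf_eq φ y)
  set O : Finset ℕ := Finset.univ.image o with hO
  have hOle : O.card ≤ 4 := by
    refine Finset.card_image_le.trans ?_
    rw [Finset.card_univ, ← Nat.card_eq_fintype_card, h4]
  have hmemO : ∀ x : G, orderOf x ∈ O := fun x => Finset.mem_image.mpr ⟨⟦x⟧, Finset.mem_univ _, rfl⟩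
  have hthree : 3 ≤ (Nat.card G).primeFactors.card := by
    by_contra hlt
    push Not at hlt
    obtain ⟨r, s, hr, hs, hsub⟩ : ∃ r s : ℕ, r.Prime ∧ s.Prime ∧ (Nat.card G).primeFactors ⊆ {r, s} := by
      rcases Nat.lt_or_ge (Nat.card G).primeFactors.card 1 with h0 | h1
      · exact ⟨2, 2, Nat.prime_two, Nat.prime_two, by simp [Finset.card_eq_zero.mp (show (Nat.card G).primeFactors.card = 0 by omega)]⟩
      rcases Nat.lt_or_ge (Nat.card G).primeFactors.card 2 with h1' | h2
      · obtain ⟨r, hr⟩ := Finset.card_eq_one.mp (by omega : (Nat.card G).primeFactors.card = 1)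
        have hrp := Nat.prime_of_mem_primeFactors (show r ∈ (Nat.card G).primeFactors by rw [hr]; simp)
        exact ⟨r, r, hrp, hrp, by rw [hr]; simp⟩
      · obtain ⟨r, s, -, hrs⟩ := Finset.card_eq_two.mp (by omega : (Nat.card G).primeFactors.card = 2)
        exact ⟨r, s, Nat.prime_of_mem_primeFactors (show r ∈ (Nat.card G).primeFactors by rw [hrs]; simp),
          Nat.prime_of_mem_primeFactors (show s ∈ (Nat.card G).primeFactors by rw [hrs]; simp), hrs.le⟩
    obtain ⟨a, b, hab⟩ := exists_pow_mul_of_primes (Nat.card G) Nat.card_pos.ne'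
      (r := r) (s := s) fun l hl hd => by
        simpa using hsub (Nat.mem_primeFactors.mpr ⟨hl, hd, Nat.card_pos.ne'⟩)
    exact hns (Burnside.isSolvable_of_card_eq_prime_pow_mul hr hs hab)
  have hsub : insert 1 (Nat.card G).primeFactors ⊆ O := by
    intro n hn
    rcases Finset.mem_insert.mp hn with rfl | hn
    · simpa using hmemO (1 : G)
    · haveI := Fact.mk (Nat.prime_of_mem_primeFactors hn)
      obtain ⟨x, hx⟩ := exists_prime_orderOf_dvd_card' (G := G) n (Nat.dvd_of_mem_primeFactors hn)
      exact hx ▸ hmemO x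
  have h1mem : 1 ∉ (Nat.card G).primeFactors := fun h => Nat.not_prime_one (Nat.prime_of_mem_primeFactors h)
  have hcard := Finset.card_le_card hsub
  rw [Finset.card_insert_of_notMem h1mem] at hcard
  have heq : insert 1 (Nat.card G).primeFactors = O := Finset.eq_of_subset_of_card_le hsub
    (by rw [Finset.card_insert_of_notMem h1mem]; omega)
  have hinj : Function.Injective o := by
    have : O.card = (Finset.univ : Finset (MulAction.orbitRel.Quotient (MulAut G) G)).card := by
      rw [Finset.card_univ, ← Nat.card_eq_fintype_card, h4, ← heq, Finset.card_insert_of_notMem h1mem]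
      omega
    intro a b h
    exact Finset.injOn_of_card_image_eq this (Finset.mem_univ a) (Finset.mem_univ b) h
  refine ⟨fun x hx => ?_, fun x y hxy => ?_, hns, by omega⟩
  · have := heq ▸ hmemO x
    rcases Finset.mem_insert.mp this with h | h
    · exact absurd (orderOf_eq_one_iff.mp h) hx
    · exact Nat.prime_of_mem_primeFactors h
  · obtain ⟨φ, hφ⟩ := Quotient.exact (hinj (a₁ := ⟦y⟧) (a₂ := ⟦x⟧) hxy.symm)
    exact ⟨φ, hφ⟩

theorem iso_alternating_of_four_orbits (hns : ¬ Group.IsSolvable G)
    (h4 : Nat.card (MulAction.orbitRel.Quotient (MulAut G) G) = 4) :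
    Nonempty (G ≃* alternatingGroup (Fin 5)) := by
  obtain ⟨h60, y, hy, hc⟩ := (isPrimeElementGroup_of_four_orbits hns h4).card_eq_sixty
  exact SL2.iso_alternating_five hy hc h60

end Cfsg.Agent.Lib.PrimeElements
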